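import Cfsg.Agent.H841.Phi

/-!
# `Fi24`: an element of order prime to 5 commuting with an element of order 5 commutes with a transposition (helper597)

* `S9_fix` : the symmetric group `S9 ≤ C(y0)` fixes the point of `l`;
* `comm_of_five` : `5 ∣ |C(g)|`, `5 ∤ orderOf g` give a transposition commuting with `g`;
* `not_five` : the same for `g : Spor.Fi24'`.
-/

set_option autoImplicit false
set_option maxRecDepth 100000

namespace Cfsg.Agent.H597.OreFi.NotFive

open Cfsg Cfsg.Agent.Lib.PermNet Cfsg.Agent.Lib.PermNetPt Cfsg.Agent.Fischer.Fi24RepDef Cfsg.Agent.Fischer.Fi24Rep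
open Cfsg.Agent.Fischer.Fi24RepOrb (UG orbG)
open Cfsg.Agent.Fischer.Fi24Spider (word_append word_cons word_nil gword gen_conj)
open Cfsg.Agent.R08.FiTwentyFour (L)
open Cfsg.Agent.KFacts.FiTF.Pts Cfsg.Agent.KFacts.FiTF.FixMask
open Cfsg.Agent.KFacts.FiTF.Defs (tr)
open Cfsg.Agent.LThreeFi24.SNineK Cfsg.Agent.LThreeFi24.SNine
open Cfsg.Agent.H841.Five
open Cfsg.Spor (Fi24)
open Cfsg.Spor.Fi24 (Gen)
open Equiv

theorem chk_s : ∀ m : Fin 8, chkPt (nw (gw.getD m []) false) 0 0 = true := by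
  intro m
  fin_cases m <;> decide +kernel

theorem s_fix (m : Fin 8) : rho (s m) 0 = 0 := rho_of_chkPt (chk_s m)

theorem S9_fix {g : Fi24} (hg : g ∈ S9) : rho g 0 = 0 := by
  induction hg using Subgroup.closure_induction with
  | mem x hx => obtain ⟨m, rfl⟩ := hx; exact s_fix m
  | one => rw [map_one]; rfl
  | mul x y _ _ hx hy => rw [map_mul, Perm.mul_apply, hy, hx]
  | inv x _ hx => rw [map_inv, Perm.inv_eq_iff_eq, hx]

theorem Phi_l (σ : Perm (Fin 9)) : Commute (Phi σ) (gen .l) :=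
  (isPt_l.comm_iff _).2 (S9_fix (Phi_mem σ))

theorem comm_of_pow {G : Type*} [Group G] {g d : G} {k : ℕ} (h : Commute (g ^ k) d) (hk : (orderOf g).Coprime k) :
    Commute g d := by
  obtain ⟨m, hm⟩ := exists_pow_eq_self_of_coprime hk.symm
  rw [← hm]
  exact h.pow_left m

theorem comm_of_order_five {g y : Fi24} (hy : orderOf y = 5) (hc : Commute g y) (h5 : ¬ 5 ∣ orderOf g) :
    ∃ d ∈ L, Commute g d := by
  obtain ⟨c, hcy⟩ := Cfsg.Agent.LThreeFi24.FiveConj.exists_conj_five hy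
  have hn : (c * g * c⁻¹) * y0 = y0 * (c * g * c⁻¹) := by
    rw [← hcy]
    calc c * g * c⁻¹ * (c * y * c⁻¹) = c * (g * y) * c⁻¹ := by group
      _ = c * (y * g) * c⁻¹ := by rw [hc.eq]
      _ = _ := by group
  obtain ⟨i, σ, -, -, he⟩ := exists_of_comm hn
  have hy5 : y0 ^ 5 = 1 := by
    rw [← hcy, conj_pow, ← hy, pow_orderOf_eq_one, mul_one, mul_inv_cancel]
  have h1 : (c * g * c⁻¹) ^ 5 = (Phi σ) ^ 5 := by
    rw [he, (comm_y0_pow_Phi i σ).mul_pow, ← pow_mul, mul_comm i 5, pow_mul, hy5, one_pow, one_mul]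
  have h2 : Commute ((c * g * c⁻¹) ^ 5) (gen .l) := by rw [h1]; exact (Phi_l σ).pow_left 5
  have ho : orderOf (c * g * c⁻¹) = orderOf g := by
    have := MulEquiv.orderOf_eq (MulAut.conj c) g
    rwa [MulAut.conj_apply] at this
  have h3 : Commute (c * g * c⁻¹) (gen .l) := by
    refine comm_of_pow h2 ?_
    rw [ho, Nat.coprime_comm]
    exact (Nat.Prime.coprime_iff_not_dvd (by norm_num)).2 h5
  refine ⟨c⁻¹ * gen .l * c, ?_, ?_⟩
  · have := Cfsg.Agent.R08.FiTwentyFour.conj isPt_l.mem c⁻¹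
    rwa [inv_inv] at this
  · show g * (c⁻¹ * gen .l * c) = c⁻¹ * gen .l * c * g
    calc g * (c⁻¹ * gen .l * c) = c⁻¹ * ((c * g * c⁻¹) * gen .l) * c := by group
      _ = c⁻¹ * (gen .l * (c * g * c⁻¹)) * c := by rw [h3.eq]
      _ = _ := by group

theorem comm_of_five {g : Fi24} (h5 : ¬ 5 ∣ orderOf g) (hC : 5 ∣ Nat.card (Subgroup.centralizer ({g} : Set Fi24))) :
    ∃ d ∈ L, Commute g d := by
  have hfin : Finite Fi24 := Cfsg.Agent.R08.FiTwentyFour.finite_Fi24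
  have : Fact (Nat.Prime 5) := ⟨by norm_num⟩
  obtain ⟨y, hy⟩ := exists_prime_orderOf_dvd_card' 5 hC
  refine comm_of_order_five (y := (y : Fi24)) ?_ ?_ h5
  · rw [Subgroup.orderOf_coe, hy]
  · exact (Subgroup.mem_centralizer_singleton_iff.1 y.2).symm

/-- **not_five** -/
theorem not_five {g : Spor.Fi24'} (h5 : ¬ 5 ∣ orderOf g) (hD : ∀ d ∈ L, ¬ Commute (g : Fi24) d) :
    ¬ 5 ∣ Nat.card (Subgroup.centralizer ({g} : Set Spor.Fi24')) := by
  intro h
  have hfin : Finite Fi24 := Cfsg.Agent.R08.FiTwentyFour.finite_Fi24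
  have : Fact (Nat.Prime 5) := ⟨by norm_num⟩
  obtain ⟨y, hy⟩ := exists_prime_orderOf_dvd_card' 5 h
  obtain ⟨d, hd, hdc⟩ := comm_of_order_five (g := (g : Fi24)) (y := ((y : Spor.Fi24') : Fi24))
    (by rw [Subgroup.orderOf_coe, Subgroup.orderOf_coe, hy])
    (congrArg Subtype.val (Subgroup.mem_centralizer_singleton_iff.1 y.2).symm)
    (by rwa [Subgroup.orderOf_coe])
  exact hD d hd hdc

end Cfsg.Agent.H597.OreFi.NotFive
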