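import Cfsg.Agent.H597.OreFi.RankD

/-!
# Elements of the centralizer of `x` acting on `Q` (helper597), part E: the main result

* `rank` : a 3-element `g` commuting with `x` and moving a class: `|C_Q(g)| ≤ 3^7`.
-/

set_option autoImplicit false
set_option linter.unusedSectionVars false

namespace Cfsg.Agent.H597.OreFi

open Subgroup
open Cfsg.Agent.LThreeFi24.Comp Cfsg.Agent.LThreeFi24.Twin Cfsg.Agent.H841.Ext Cfsg.Agent.Fischer.Hall

/-! ### Counting -/

section
open Finset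
open scoped Classical in
theorem count {V : Type*} [Fintype V] {A : V → V → Prop} (hs : ∀ s t, A s t → A t s)
    (hV : Fintype.card V = 165) (hN : ∀ s, (univ.filter fun t => A s t).card = 36)
    (hL : ∀ s q, A s q → (univ.filter fun a => A s a ∧ (a = q ∨ A q a)).card = 4) {F : V → Prop}
    (hex : ∀ s, ¬ F s → ∀ a, A s a → ∃ q, A s q ∧ (q = a ∨ A a q) ∧ F q)
    (hun : ∀ s, ¬ F s → ∀ a q q', A s a → A s q → (q = a ∨ A a q) → F q → A s q' → (q' = a ∨ A a q') → F q' → q = q')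
    (hF : ∀ q a, F q → A q a → ¬ F a) : (univ.filter fun t => F t).card = 33 := by
  -- the fixed neighbours of a moved point
  have h9 : ∀ s, ¬ F s → (univ.filter fun q => A s q ∧ F q).card = 9 := by
    intro s hsF
    have h1 := Finset.sum_card_bipartiteAbove_eq_sum_card_bipartiteBelow (s := univ.filter fun a => A s a)
      (t := univ.filter fun q => A s q ∧ F q) (fun a q => q = a ∨ A a q)
    have h2 : ∀ a ∈ univ.filter (fun a => A s a), ((univ.filter fun q => A s q ∧ F q).bipartiteAbove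
        (fun a q => q = a ∨ A a q) a).card = 1 := by
      intro a ha
      rw [mem_filter] at ha
      obtain ⟨q, h3, h4, h5⟩ := hex s hsF a ha.2
      rw [Finset.card_eq_one]
      refine ⟨q, ?_⟩
      ext q'
      rw [mem_bipartiteAbove, mem_filter, mem_singleton]
      constructor
      · rintro ⟨⟨-, h6, h7⟩, h8⟩
        exact hun s hsF a q' q ha.2 h6 h8 h7 h3 h4 h5
      · rintro rfl
        exact ⟨⟨mem_univ _, h3, h5⟩, h4⟩
    have h3 : ∀ q ∈ univ.filter (fun q => A s q ∧ F q), ((univ.filter fun a => A s a).bipartiteBelow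
        (fun a q => q = a ∨ A a q) q).card = 4 := by
      intro q hq
      rw [mem_filter] at hq
      rw [← hL s q hq.2.1]
      congr 1
      ext a
      rw [mem_bipartiteBelow, mem_filter, mem_filter]
      constructor
      · rintro ⟨⟨-, h4⟩, h5 | h5⟩
        · exact ⟨mem_univ _, h4, Or.inl h5.symm⟩
        · exact ⟨mem_univ _, h4, Or.inr (hs _ _ h5)⟩
      · rintro ⟨-, h4, h5 | h5⟩
        · exact ⟨⟨mem_univ _, h4⟩, Or.inl h5.symm⟩
        · exact ⟨⟨mem_univ _, h4⟩, Or.inr (hs _ _ h5)⟩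
    rw [Finset.sum_congr rfl h2, Finset.sum_congr rfl h3, Finset.sum_const, Finset.sum_const, hN] at h1
    simp only [smul_eq_mul] at h1
    omega
  have h1 := Finset.sum_card_bipartiteAbove_eq_sum_card_bipartiteBelow (s := univ.filter fun t => F t)
    (t := univ.filter fun t => ¬ F t) (fun q s => A q s)
  have h2 : ∀ q ∈ univ.filter (fun t => F t), ((univ.filter fun t => ¬ F t).bipartiteAbove
      (fun q s => A q s) q).card = 36 := by
    intro q hq
    rw [mem_filter] at hq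
    rw [← hN q]
    congr 1
    ext t
    rw [mem_bipartiteAbove, mem_filter, mem_filter]
    exact ⟨fun h => ⟨mem_univ _, h.2⟩, fun h => ⟨⟨mem_univ _, hF q t hq.2 h.2⟩, h.2⟩⟩
  have h3 : ∀ s ∈ univ.filter (fun t => ¬ F t), ((univ.filter fun t => F t).bipartiteBelow
      (fun q s => A q s) s).card = 9 := by
    intro s hs'
    rw [mem_filter] at hs'
    rw [← h9 s hs'.2]
    congr 1
    ext t
    rw [mem_bipartiteBelow, mem_filter, mem_filter]
    exact ⟨fun h => ⟨mem_univ _, hs _ _ h.2, h.1.2⟩, fun h => ⟨⟨mem_univ _, h.2.2⟩, hs _ _ h.2.1⟩⟩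
  rw [Finset.sum_congr rfl h2, Finset.sum_congr rfl h3, Finset.sum_const, Finset.sum_const] at h1
  simp only [smul_eq_mul] at h1
  have h4 : (univ.filter fun t => F t).card + (univ.filter fun t => ¬ F t).card = 165 := by
    rw [← hV, Finset.card_filter_add_card_filter_not]
    rfl
  omega

end

universe u

variable {X : Type u} [Group X] {D : Set X} {x z : X} {d : Fin 5 → X}

section

variable (H : Dat D x z d)

include H

/-- the classes fixed by `g` -/
def DF (D : Set X) (g : X) : Set X := {e | e ∈ D ∧ Tw D e (g * e * g⁻¹)}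

theorem DF_conj {g a e : X} (ha : a ∈ DF D g) (he : e ∈ DF D g) : a * e * a⁻¹ ∈ DF D g := by
  refine ⟨H.ts.cj e he.1 a, ?_⟩
  have h1 := Tw.act H.ts ha.1 (H.ts.cj a ha.1 g) he.1 ha.2
  have h2 := he.2.conj H.ts (g * a * g⁻¹)
  have e1 : (g * a * g⁻¹) * (g * e * g⁻¹) * (g * a * g⁻¹)⁻¹ = g * (a * e * a⁻¹) * g⁻¹ := by group
  rw [e1] at h2
  exact h1.trans h2

theorem card_class [Finite X] {t : X} (ht : t ∈ D) :
    Nat.card {e : X // e ∈ D ∧ Tw D t e} = Nat.card {e : X // e ∈ D ∧ Tw D (d 0) e} := by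
  obtain ⟨k, hk⟩ := tr_all H ht
  refine Nat.card_congr
    { toFun := fun e => ⟨k * e * k⁻¹, H.ts.cj e e.2.1 k, ?_⟩
      invFun := fun e => ⟨k⁻¹ * e * k, ?_, ?_⟩
      left_inv := ?_
      right_inv := ?_ }
  · rw [← hk]
    exact e.2.2.conj H.ts k
  · have := H.ts.cj e e.2.1 k⁻¹
    rwa [inv_inv] at this
  · have h1 := e.2.2.conj H.ts k⁻¹
    have e1 : k⁻¹ * d 0 * k⁻¹⁻¹ = t := by rw [← hk]; group
    rw [e1, inv_inv] at h1
    exact h1
  · intro e
    apply Subtype.ext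
    show k⁻¹ * (k * (e : X) * k⁻¹) * k = e
    group
  · intro e
    apply Subtype.ext
    show k * (k⁻¹ * (e : X) * k) * k⁻¹ = e
    group

/-- if no two members of `DF D g` commute, then their number is a power of three -/
theorem card_DF [Finite X] {g : X} (hn : ∀ a ∈ DF D g, ∀ e ∈ DF D g, a * e * a = e * a * e) {a0 : X}
    (ha0 : a0 ∈ DF D g) : ∃ n, Nat.card (DF D g) = 3 ^ n := by
  have : Fact (Nat.Prime 3) := ⟨Nat.prime_three⟩
  set K := Subgroup.closure (DF D g) with hK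
  have hcj : ∀ k ∈ K, ∀ e ∈ DF D g, k * e * k⁻¹ ∈ DF D g ∧ k⁻¹ * e * k ∈ DF D g := by
    intro k hk
    induction hk using Subgroup.closure_induction with
    | mem a ha =>
      intro e he
      have h1 := DF_conj H ha he
      have h2 := H.ts.inv_eq ha.1
      refine ⟨h1, ?_⟩
      rw [h2] at h1 ⊢
      exact h1
    | one => intro e he; constructor <;> simpa using he
    | mul a b _ _ iha ihb =>
      intro e he
      constructor
      · have h1 := (iha _ (ihb e he).1).1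
        have e1 : a * (b * e * b⁻¹) * a⁻¹ = a * b * e * (a * b)⁻¹ := by group
        rwa [e1] at h1
      · have h1 := (ihb _ (iha e he).2).2
        have e1 : b⁻¹ * (a⁻¹ * e * a) * b = (a * b)⁻¹ * e * (a * b) := by group
        rwa [e1] at h1
    | inv a _ iha =>
      intro e he
      rw [inv_inv]
      exact ⟨(iha e he).2, (iha e he).1⟩
  let DK : Set K := {k | (k : X) ∈ DF D g}
  have hH : HTSet DK :=
    { sq := fun e he => Subtype.ext (H.ts.sq _ he.1)
      br := fun a ha e he => Subtype.ext (hn _ ha _ he)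
      cj := fun k e he => (hcj k k.2 _ he).1 }
  set R : Subgroup K := Subgroup.closure {y : K | ∃ a ∈ DK, ∃ e ∈ DK, y = a * e} with hRd
  have hR : IsPGroup 3 R := isPGroup_closure_products hH
  let a : K := ⟨a0, Subgroup.subset_closure ha0⟩
  let _ : MulAction R K := MulAction.compHom K ((MulAut.conj (G := K)).comp R.subtype)
  have hsm : ∀ (r : R) (k : K), r • k = (r : K) * k * (r : K)⁻¹ := fun r k => rfl
  obtain ⟨n, hn'⟩ := hR.card_orbit a
  refine ⟨n, ?_⟩
  rw [← hn']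
  have horb : ∀ k : K, k ∈ MulAction.orbit R a ↔ k ∈ DK := by
    intro k
    constructor
    · rintro ⟨r, rfl⟩
      show (r • a) ∈ DK
      rw [hsm]
      exact (hcj _ (r : K).2 _ ha0).1
    · intro hk
      refine ⟨⟨a * k, Subgroup.subset_closure ⟨a, ha0, k, hk, rfl⟩⟩, ?_⟩
      show ((⟨a * k, _⟩ : R) • a : K) = k
      rw [hsm]
      have h1 := hH.br a ha0 k hk
      have h2 : a⁻¹ = a := hH.inv_eq ha0
      have h3 : k⁻¹ = k := hH.inv_eq hk
      have h4 := hH.sq a ha0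
      calc (a * k) * a * (a * k)⁻¹ = (a * k * a) * k⁻¹ * a⁻¹ := by group
        _ = (a * k * a) * k * a := by rw [h2, h3]
        _ = a * (k * a * k) * a := by simp only [mul_assoc]
        _ = (a * a) * k * (a * a) := by rw [← h1]; simp only [mul_assoc]
        _ = k := by rw [h4, one_mul, mul_one]
  refine Nat.card_congr
    { toFun := fun e => ⟨⟨e, Subgroup.subset_closure e.2⟩, (horb _).2 e.2⟩
      invFun := fun k => ⟨(k : K), (horb _).1 k.2⟩
      left_inv := fun e => rfl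
      right_inv := fun k => rfl }

/-- **Case C, no two commuting fixed classes**: impossible -/
theorem caseC2 [Finite X] (Gm : Geo D z) {g : X}
    (hC : ∀ p ∈ D, ¬ Tw D p (g * p * g⁻¹) → ∀ b ∈ Nb D p, ∃ a ∈ Nb D p, (a ∈ Nb D b ∨ Tw D b a) ∧ Tw D a (g * a * g⁻¹))
    (hnn : ∀ e ∈ DF D g, ∀ a ∈ Nb D e, ¬ Tw D a (g * a * g⁻¹)) : False := by
  classical
  have hfin : Fintype ↥(T0 D z) := Fintype.ofFinite _
  have fx_tw : ∀ {a b : X}, Tw D a b → Tw D a (g * a * g⁻¹) → Tw D b (g * b * g⁻¹) := fun {a b} h h1 =>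
    (h.symm.trans h1).trans (h.conj H.ts g)
  have hcardset : ∀ (P : ↥(T0 D z) → Prop) (S : Set X), (∀ y : X, y ∈ S ↔ ∃ h : y ∈ T0 D z, P ⟨y, h⟩) →
      (Finset.univ.filter fun t => P t).card = S.ncard := by
    intro P S hS
    rw [← Set.ncard_coe_finset]
    have : S = Subtype.val '' (((Finset.univ.filter fun t => P t) : Finset ↥(T0 D z)) : Set ↥(T0 D z)) := by
      ext y
      rw [hS]
      constructor
      · rintro ⟨h, hp⟩
        exact ⟨⟨y, h⟩, by simpa using hp, rfl⟩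
      · rintro ⟨⟨w, h⟩, hp, rfl⟩
        exact ⟨h, by simpa using hp⟩
    rw [this, Set.ncard_image_of_injective _ Subtype.val_injective]
  have h33 : (Finset.univ.filter fun t : ↥(T0 D z) => Tw D (t : X) (g * (t : X) * g⁻¹)).card = 33 := by
    convert count (V := ↥(T0 D z)) (A := fun s t => (t : X) ∈ Nb D (s : X))
      (F := fun t => Tw D (t : X) (g * (t : X) * g⁻¹)) ?_ ?_ ?_ ?_ ?_ ?_ ?_ using 2
    · intro s t h
      exact nb_symm s.2.1 h
    · rw [← Nat.card_eq_fintype_card, Nat.card_coe_set_eq, Gm.cV]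
    · intro s
      rw [← Gm.cN s s.2]
      convert hcardset (fun t => (t : X) ∈ Nb D (s : X)) (Nb D (s : X) ∩ T0 D z) ?_ using 2
      intro y
      exact ⟨fun h => ⟨h.2, h.1⟩, fun ⟨h1, h2⟩ => ⟨h2, h1⟩⟩
    · intro s q hsq
      rw [← Gm.cL s s.2 q ⟨hsq, q.2⟩]
      convert hcardset (fun a => (a : X) ∈ Nb D (s : X) ∧ (a = q ∨ (a : X) ∈ Nb D (q : X)))
        {a | a ∈ Nb D (s : X) ∩ T0 D z ∧ (a = q ∨ a ∈ Nb D (q : X))} ?_ using 4
      intro y
      constructor
      · rintro ⟨⟨h1, h2⟩, h3 | h3⟩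
        · exact ⟨h2, h1, Or.inl (Subtype.ext h3)⟩
        · exact ⟨h2, h1, Or.inr h3⟩
      · rintro ⟨h1, h2, h3 | h3⟩
        · exact ⟨⟨h2, h1⟩, Or.inl (congrArg Subtype.val h3)⟩
        · exact ⟨⟨h2, h1⟩, Or.inr h3⟩
    · intro s hs a hsa
      obtain ⟨q, h1, h2, h3⟩ := hC s s.2.1 hs a hsa
      obtain ⟨t, ht, htz, hqt⟩ := H.tw q h1.1
      refine ⟨⟨t, ht, htz⟩, nb_tw' s.2.1 ht hqt h1, ?_, fx_tw hqt h3⟩
      rcases h2 with h2 | h2
      · right
        exact nb_tw' a.2.1 ht hqt h2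
      · left
        apply Subtype.ext
        exact (un_T0 H a.2 ⟨ht, htz⟩ (h2.trans hqt)).symm
    · intro s hs a q q' hsa hsq haq hq hsq' haq' hq'
      have h1 : (a : X) ∈ Nb D (q : X) ∨ Tw D (q : X) (a : X) := by
        rcases haq with rfl | h
        · exact Or.inr (Tw.refl _)
        · exact Or.inl (nb_symm a.2.1 h)
      have h2 : (q' : X) ∈ Nb D (a : X) ∨ Tw D (a : X) (q' : X) := by
        rcases haq' with rfl | h
        · exact Or.inr (Tw.refl _)
        · exact Or.inl h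
      rcases Gm.line s s.2.1 q hsq a hsa q' hsq' h1 h2 with h3 | h3
      · exact absurd hq' (hnn q ⟨q.2.1, hq⟩ q' h3)
      · exact Subtype.ext (un_T0 H q.2 q'.2 h3)
    · intro q a hq hqa
      exact hnn q ⟨q.2.1, hq⟩ a hqa
  -- a member
  have hne : ∃ t : ↥(T0 D z), Tw D (t : X) (g * (t : X) * g⁻¹) := by
    by_contra hcon
    push Not at hcon
    rw [Finset.filter_false_of_mem (fun t _ => hcon t)] at h33
    simp at h33
  obtain ⟨t0, ht0⟩ := hne
  obtain ⟨n, hn⟩ := card_DF H (g := g) (by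
    intro a ha e he
    rcases H.ts.tri a ha.1 e he.1 with h1 | h1
    · by_cases hae : a = e
      · rw [hae]
      · exact absurd he.2 (hnn a ha e ⟨he.1, fun h => hae h.symm, h1⟩)
    · exact h1) (a0 := t0) ⟨t0.2.1, ht0⟩
  -- the fibres
  have hcard : Nat.card (DF D g) = 33 * Nat.card {e : X // e ∈ D ∧ Tw D (d 0) e} := by
    have h1 : Nat.card (DF D g) = Nat.card (Σ t : {t : ↥(T0 D z) // Tw D (t : X) (g * (t : X) * g⁻¹)},
        {e : X // e ∈ D ∧ Tw D ((t : ↥(T0 D z)) : X) e}) := by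
      have hex : ∀ e : DF D g, ∃ t : ↥(T0 D z), Tw D (t : X) (e : X) := by
        intro e
        obtain ⟨t, ht, htz, het⟩ := H.tw _ e.2.1
        exact ⟨⟨t, ht, htz⟩, het.symm⟩
      choose f hf using hex
      refine Nat.card_congr (Equiv.ofBijective (fun e => ⟨⟨f e, fx_tw (hf e).symm e.2.2⟩, ⟨e, e.2.1, hf e⟩⟩) ⟨?_, ?_⟩)
      · intro e e' h
        have h2 : ((⟨⟨f e, fx_tw (hf e).symm e.2.2⟩, ⟨(e : X), e.2.1, hf e⟩⟩ :
          (Σ t : {t : ↥(T0 D z) // Tw D (t : X) (g * (t : X) * g⁻¹)}, {e : X // e ∈ D ∧ Tw D ((t : ↥(T0 D z)) : X) e})).2 : X) =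
          ((⟨⟨f e', fx_tw (hf e').symm e'.2.2⟩, ⟨(e' : X), e'.2.1, hf e'⟩⟩ :
          (Σ t : {t : ↥(T0 D z) // Tw D (t : X) (g * (t : X) * g⁻¹)}, {e : X // e ∈ D ∧ Tw D ((t : ↥(T0 D z)) : X) e})).2 : X) :=
          congrArg (fun y : (Σ t : {t : ↥(T0 D z) // Tw D (t : X) (g * (t : X) * g⁻¹)},
            {e : X // e ∈ D ∧ Tw D ((t : ↥(T0 D z)) : X) e}) => (y.2 : X)) h
        exact Subtype.ext h2
      · rintro ⟨⟨t, ht⟩, ⟨e, he, hte⟩⟩
        have h2 : f ⟨e, he, fx_tw hte ht⟩ = t := Subtype.ext (un_T0 H (Subtype.coe_prop _) t.2 ((hf ⟨e, he, fx_tw hte ht⟩).trans hte.symm))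
        exact ⟨⟨e, he, fx_tw hte ht⟩, Sigma.subtype_ext (Subtype.ext h2) rfl⟩
    rw [h1, Nat.card_sigma]
    rw [Finset.sum_congr rfl (fun (t : {t : ↥(T0 D z) // Tw D (t : X) (g * (t : X) * g⁻¹)}) _ => card_class H t.1.2.1),
      Finset.sum_const, smul_eq_mul]
    congr 1
    rw [Finset.card_univ, Fintype.card_subtype, ← h33]
  have h11 : 11 ∣ 3 ^ n := by
    rw [← hn, hcard]
    exact ⟨3 * Nat.card {e : X // e ∈ D ∧ Tw D (d 0) e}, by ring⟩
  have h12 := (Nat.Prime.dvd_of_dvd_pow (by norm_num) h11 : 11 ∣ 3)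
  omega

/-- **the main result** -/
theorem rank [Finite X] (Gm : Geo D z) (hc : Nat.card (Qc D (d 0)) = 27) (hx : Nat.card (zpowers x) = 3) {g : X}
    (hg : Commute g x) {n : ℕ} (hn : g ^ 3 ^ n = 1) {p0 : X} (hp0 : p0 ∈ D) (hpt0 : ¬ Tw D p0 (g * p0 * g⁻¹)) :
    Nat.card ↥(centralizer ({g} : Set X) ⊓ QQ D) ≤ 3 ^ 7 := by
  by_cases hA : ∃ p ∈ D, g * p * g⁻¹ ∈ Nb D p
  · obtain ⟨p, hp, h⟩ := hA
    exact caseA H Gm hc hx hg hn hp h
  have hno : NoA D g := fun p hp h => hA ⟨p, hp, h⟩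
  by_cases hB : ∃ p ∈ D, ∃ a ∈ Nb D p, ¬ Tw D p (g * p * g⁻¹) ∧ g * p * g⁻¹ ∈ Nb D a ∧ ¬ Tw D a (g * a * g⁻¹)
  · obtain ⟨p, hp, a, ha, h1, h2, h3⟩ := hB
    exact caseB H Gm hc hx hg hno hp h1 ha h2 h3
  have hB' : ∀ p ∈ D, ∀ a ∈ Nb D p, ¬ Tw D p (g * p * g⁻¹) → g * p * g⁻¹ ∈ Nb D a → Tw D a (g * a * g⁻¹) := by
    intro p hp a ha h1 h2
    by_contra h3
    exact hB ⟨p, hp, a, ha, h1, h2, h3⟩
  by_cases hC : ∃ e ∈ DF D g, ∃ a ∈ Nb D e, Tw D a (g * a * g⁻¹)
  · obtain ⟨e, he, a, ha, hat⟩ := hC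
    exact caseC1 H Gm hc hx hg hn hno hp0 hpt0 he.1 he.2 ha hat
  · exfalso
    refine caseC2 H Gm (g := g) ?_ ?_
    · intro p hp hpt b hb
      exact caseC H Gm hno hB' hp hpt hb
    · intro e he a ha hat
      exact hC ⟨e, he, a, ha, hat⟩

end

end Cfsg.Agent.H597.OreFi
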