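import Cfsg.Agent.H841.ExtD

/-!
# The geometry of the classes of twins (helper597, for the order 9 elements of `Fi24'`)

`D` a set of 3-transpositions; the classes of twins of `D` are the points of a generalized quadrangle with lines of five
points, nine lines through each point (165 points, represented by `T0 D z`).
-/

set_option autoImplicit false

namespace Cfsg.Agent.H597.OreFi

open Subgroup
open Cfsg.Agent.LThreeFi24.Comp Cfsg.Agent.LThreeFi24.Twin Cfsg.Agent.H841.Ext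

variable {X : Type*} [Group X]

/-- the geometry of the classes of twins -/
structure Geo (D : Set X) (z : X) : Prop where
  /-- on the neighbours of `e`, "neighbour or twin" is transitive -/
  line : ∀ e ∈ D, ∀ a ∈ Nb D e, ∀ b ∈ Nb D e, ∀ c ∈ Nb D e, (b ∈ Nb D a ∨ Tw D a b) → (c ∈ Nb D b ∨ Tw D b c) →
    (c ∈ Nb D a ∨ Tw D a c)
  /-- two commuting classes lie in five commuting classes -/
  five : ∀ e ∈ D, ∀ a ∈ Nb D e, ∃ b c f : X, b ∈ Nb D e ∧ c ∈ Nb D e ∧ f ∈ Nb D e ∧ b ∈ Nb D a ∧ c ∈ Nb D a ∧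
    f ∈ Nb D a ∧ c ∈ Nb D b ∧ f ∈ Nb D b ∧ f ∈ Nb D c
  /-- one or all: a class not commuting with `e` commutes with a point of each line through `e` -/
  proj : ∀ e ∈ D, ∀ a ∈ Nb D e, ∀ x ∈ D, x ∉ Nb D e → ¬ Tw D e x →
    ∃ u ∈ Nb D e, (u ∈ Nb D a ∨ Tw D a u) ∧ x ∈ Nb D u
  cV : (T0 D z).ncard = 165
  cN : ∀ x ∈ T0 D z, (Nb D x ∩ T0 D z).ncard = 36
  cL : ∀ x ∈ T0 D z, ∀ q ∈ Nb D x ∩ T0 D z, {a | a ∈ Nb D x ∩ T0 D z ∧ (a = q ∨ a ∈ Nb D q)}.ncard = 4

end Cfsg.Agent.H597.OreFi
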