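import Cfsg.Agent.H48.OreFi.Nine
import Cfsg.Agent.H48.OreFi.TwoPart
import Cfsg.Agent.H834.Geo.GeoDN
import Cfsg.Agent.H256.Sep.FiData
import Cfsg.Agent.H597.OreFi.RankE
import Cfsg.Agent.H597.OreFi.NotFive

/-!
# `Fi24'`: elements of order 9 and 27 whose power of order 3 is 3-central (helper597)

* `card_dvd` : `|C(g) ∩ N(⟨x3⟩)|` divides `2 ^ 12 * 3 ^ 12 * 5 * 11`;
* `wd_two` : `Wd 2`.
-/

set_option autoImplicit false
set_option maxRecDepth 100000

namespace Cfsg.Agent.H597.OreFi.NineB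

open Subgroup
open Cfsg.Agent.LThreeFi24.Comp Cfsg.Agent.LThreeFi24.Twin Cfsg.Agent.H841.Ext
open Cfsg.Agent.H841.Tri
open Cfsg.Agent.LThreeFi24.SNine
open Cfsg.Agent.R08.FiTwentyFour (L)
open Cfsg.Spor (Fi24)

theorem finite_NX : Finite NX := by
  have : Finite Fi24 := Cfsg.Agent.R08.FiTwentyFour.finite_Fi24
  infer_instance

/-- abstract form of `exists_moved` -/
theorem exists_moved' {X : Type*} [Group X] [Finite X] {D : Set X} {x z : X} {d : Fin 5 → X} (H : Dat D x z d)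
    (hc : Nat.card (Qc D (d 0)) = 27) (hx : Nat.card (zpowers x) = 3) {g : X} {b : ℕ} (hb : 2 ≤ b)
    (hg : orderOf g = 3 ^ b) : ∃ p ∈ D, ¬ Tw D p (g * p * g⁻¹) := by
  by_contra hcon
  have hF : Fx D g := by
    intro e he
    by_contra h
    exact hcon ⟨e, he, fun h' => h h'.symm⟩
  have h1 := (H.fx_iff hc hx).1 hF
  have hn : (QQ D).Normal := H.normal_Q
  obtain ⟨q, hq, w, hw, e⟩ := Subgroup.mem_sup_of_normal_left.1 h1
  have hww : w * w = 1 := by
    obtain ⟨k, rfl⟩ := Subgroup.mem_zpowers_iff.1 hw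
    rw [← (Commute.refl z).mul_zpow, H.zz, one_zpow]
  have h2 : g ^ 2 ∈ QQ D := by
    have e1 : g ^ 2 = q * (w * q * w⁻¹) := by
      rw [← e, pow_two]
      calc q * w * (q * w) = q * (w * q * w⁻¹) * (w * w) := by group
        _ = _ := by rw [hww, mul_one]
    rw [e1]
    exact mul_mem hq (hn.conj_mem q hq w)
  have h3 : (g ^ 2) ^ 3 = 1 := (H.es_card hc hx).1.cub _ h2
  rw [← pow_mul] at h3
  have h4 : 3 ^ b ∣ 2 * 3 := by rw [← hg]; exact orderOf_dvd_of_pow_eq_one h3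
  have h5 : 3 ^ 2 ∣ 2 * 3 := (pow_dvd_pow 3 hb).trans h4
  exact absurd h5 (by norm_num)

/-- an element of order a power of 3, at least 9, moves a class of twins -/
theorem exists_moved {g : NX} {b : ℕ} (hb : 2 ≤ b) (hg : orderOf g = 3 ^ b) :
    ∃ p ∈ DN, ¬ Tw DN p (g * p * g⁻¹) := by
  have := finite_NX
  exact exists_moved' dat card_Qc card_xN hb hg

/-- the order of the centralizer in `N(⟨x3⟩)` -/
theorem card_dvd {g : NX} (hc : Commute g xN) {b : ℕ} (hb : 2 ≤ b) (hg : orderOf g = 3 ^ b) :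
    Nat.card (centralizer ({g} : Set NX)) ∣ 2 ^ 12 * 3 ^ 12 * 5 * 11 := by
  have := finite_NX
  have hn : (QQ DN).Normal := dat.normal_Q
  obtain ⟨p0, hp0, hpt0⟩ := exists_moved hb hg
  have hr := rank dat Cfsg.Agent.H834.GeoDN.geoDN card_Qc card_xN (g := g) hc (n := b)
    (by rw [← hg, pow_orderOf_eq_one]) hp0 hpt0
  obtain ⟨j, hj, hj'⟩ := (Nat.dvd_prime_pow (by norm_num : Nat.Prime 3)).1
    (card_QQ ▸ Subgroup.card_dvd_of_le (inf_le_right : centralizer ({g} : Set NX) ⊓ QQ DN ≤ QQ DN))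
  have hj7 : j ≤ 7 := by
    rw [hj'] at hr
    exact (Nat.pow_le_pow_iff_right (by norm_num)).1 hr
  have e1 : Nat.card (QQ DN ⊓ centralizer ({g} : Set NX) : Subgroup NX) * (QQ DN).relIndex (centralizer ({g} : Set NX)) =
      Nat.card (centralizer ({g} : Set NX)) := by
    have := Subgroup.relIndex_mul_relIndex ⊥ (QQ DN ⊓ centralizer ({g} : Set NX)) (centralizer ({g} : Set NX)) bot_le
      inf_le_right
    rwa [relIndex_bot_left, relIndex_bot_left, inf_relIndex_right] at this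
  have e2 : (QQ DN).index = 2 * (2 * 13685760) := by
    have := Subgroup.card_mul_index (QQ DN)
    rw [card_QQ, card_NX] at this
    exact Nat.eq_of_mul_eq_mul_left (by positivity) this
  have e3 : (QQ DN).relIndex (centralizer ({g} : Set NX)) ∣ 2 * (2 * 13685760) := by
    rw [← e2]
    exact Subgroup.relIndex_dvd_index_of_normal _ _
  rw [← e1, inf_comm, hj']
  have e4 : 3 ^ j ∣ 3 ^ 7 := pow_dvd_pow 3 hj7
  have e5 := mul_dvd_mul e4 e3
  have e6 : (3 ^ 7 * (2 * (2 * 13685760)) : ℕ) = 2 ^ 12 * 3 ^ 12 * 5 * 11 := by norm_num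
  rwa [e6] at e5

theorem num_bound {m : ℕ} (h : m ∣ 2 ^ 12 * 3 ^ 12 * 5 * 11) (h2 : ¬ 2 ^ 8 ∣ m) (h5 : ¬ 5 ∣ m) (h11 : ¬ 11 ∣ m) :
    m ≤ 78382080 := by
  have c11 : m.Coprime 11 := Nat.coprime_comm.1 ((Nat.Prime.coprime_iff_not_dvd (by norm_num)).2 h11)
  have c5 : m.Coprime 5 := Nat.coprime_comm.1 ((Nat.Prime.coprime_iff_not_dvd (by norm_num)).2 h5)
  have h1 : m ∣ 2 ^ 12 * 3 ^ 12 := c5.dvd_of_dvd_mul_right (c11.dvd_of_dvd_mul_right h)
  obtain ⟨a, c, ha, hc, e⟩ := (Nat.dvd_mul.1 h1)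
  obtain ⟨i, hi, rfl⟩ := (Nat.dvd_prime_pow (by norm_num : Nat.Prime 2)).1 ha
  have hi7 : i ≤ 7 := by
    by_contra hcon
    apply h2
    rw [← e]
    exact (pow_dvd_pow 2 (by omega : 8 ≤ i)).trans (dvd_mul_right _ _)
  have h3 : 2 ^ i * c ∣ 2 ^ 7 * 3 ^ 12 := mul_dvd_mul (pow_dvd_pow 2 hi7) hc
  rw [e] at h3
  exact (Nat.le_of_dvd (by norm_num) h3).trans (by norm_num)

/-- **width five** -/
theorem wd_two : Cfsg.Agent.H48.OreFi.Nine.Wd 2 := by
  apply Cfsg.Agent.H48.OreFi.Nine.Wd.of_X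
  intro g b hb hg hX hD
  have hfin : Finite Fi24 := Cfsg.Agent.R08.FiTwentyFour.finite_Fi24
  have hX' : (g : Fi24) ^ 3 ^ (b - 1) = x3 := by
    rw [hX, Cfsg.Agent.LThreeFi24.CaseB.word_x3]
    rfl
  have hgx : Commute (g : Fi24) x3 := by rw [← hX']; exact (Commute.refl _).pow_right _
  have hgo : orderOf (g : Fi24) = 3 ^ b := by rw [Subgroup.orderOf_coe, hg]
  have hodd : Odd (orderOf (g : Fi24)) := by rw [hgo]; exact Odd.pow (by decide)
  -- the group `K`
  let K : Subgroup Fi24 := centralizer {(g : Fi24)} ⊓ centralizer {x3} ⊓ commutator Fi24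
  have hmap : (centralizer ({g} : Set Spor.Fi24')).map (commutator Fi24).subtype = K := by
    ext x
    constructor
    · rintro ⟨y, hy, rfl⟩
      have h1 : (y : Fi24) * (g : Fi24) = (g : Fi24) * y := congrArg Subtype.val (mem_centralizer_singleton_iff.1 hy)
      refine ⟨⟨mem_centralizer_singleton_iff.2 h1, mem_centralizer_singleton_iff.2 ?_⟩, y.2⟩
      show Commute (y : Fi24) x3
      rw [← hX']
      exact Commute.pow_right h1 _
    · rintro ⟨⟨h1, -⟩, h2⟩
      exact ⟨⟨x, h2⟩, mem_centralizer_singleton_iff.2 (Subtype.ext (mem_centralizer_singleton_iff.1 h1)), rfl⟩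
  have hcard : Nat.card (centralizer ({g} : Set Spor.Fi24')) = Nat.card K := by
    rw [← hmap]
    exact Nat.card_congr ((centralizer ({g} : Set Spor.Fi24')).equivMapOfInjective _
        (Subgroup.subtype_injective _)).toEquiv
  let gN : NX := ⟨(g : Fi24), mem_NX_of_comm hgx⟩
  have hgN : orderOf gN = 3 ^ b := by
    rw [← hgo]
    exact (Subgroup.orderOf_coe gN).symm
  have hK : Nat.card K ∣ 2 ^ 12 * 3 ^ 12 * 5 * 11 := by
    refine dvd_trans ?_ (card_dvd (g := gN) (Subtype.ext hgx) hb hgN)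
    have e1 : Nat.card (centralizer ({gN} : Set NX)) = Nat.card ((centralizer ({gN} : Set NX)).map NX.subtype) :=
      Nat.card_congr ((centralizer ({gN} : Set NX)).equivMapOfInjective _ (Subgroup.subtype_injective _)).toEquiv
    rw [e1]
    apply Subgroup.card_dvd_of_le
    rintro x ⟨⟨h1, h2⟩, -⟩
    refine ⟨⟨x, mem_NX_of_comm (mem_centralizer_singleton_iff.1 h2)⟩, ?_, rfl⟩
    exact mem_centralizer_singleton_iff.2 (Subtype.ext (mem_centralizer_singleton_iff.1 h1))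
  rw [hcard]
  refine num_bound hK (Cfsg.Agent.H48.OreFi.TwoPart.two_part hgx hodd hD) ?_ ?_
  · rw [← hcard]
    refine NotFive.not_five ?_ hD
    rw [hg]
    intro h
    have := Nat.Prime.dvd_of_dvd_pow (by norm_num) h
    omega
  · intro h11
    have : Fact (Nat.Prime 11) := ⟨by norm_num⟩
    obtain ⟨y, hy⟩ := exists_prime_orderOf_dvd_card' 11 h11
    have hy' : orderOf (y : Fi24) = 11 := by rw [Subgroup.orderOf_coe, hy]
    have hc := (Cfsg.Agent.H256.Sep.FiData.data11 (R := zpowers (y : Fi24)) (by rw [Nat.card_zpowers, hy'])).1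
    have hgy : (g : Fi24) ∈ centralizer ((zpowers (y : Fi24) : Subgroup Fi24) : Set Fi24) := by
      rw [mem_centralizer_iff]
      rintro _ ⟨k, rfl⟩
      have h1 : (y : Fi24) * (g : Fi24) = (g : Fi24) * y := mem_centralizer_singleton_iff.1 y.2.1.1
      exact (Commute.zpow_left h1 k).eq
    have h1 : 3 ^ b ∣ 264 := by
      refine dvd_trans ?_ hc
      rw [← hgo]
      exact Subgroup.orderOf_dvd_natCard _ hgy
    have h2 : 3 ^ 2 ∣ 264 := (pow_dvd_pow 3 hb).trans h1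
    exact absurd h2 (by norm_num)

end Cfsg.Agent.H597.OreFi.NineB
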