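import Cfsg.Agent.H841.ExtC
import Cfsg.Agent.H597.OreFi.GeoDef

/-!
# Elements of the centralizer of `x` acting on `Q` (helper597), part A: the groups `Qc D e`
-/

set_option autoImplicit false

namespace Cfsg.Agent.H597.OreFi

open Subgroup
open Cfsg.Agent.LThreeFi24.Comp Cfsg.Agent.LThreeFi24.Twin Cfsg.Agent.H841.Ext

variable {X : Type*} [Group X] {D : Set X} {x z : X} {d : Fin 5 → X}

theorem nb_symm {a b : X} (ha : a ∈ D) (h : b ∈ Nb D a) : a ∈ Nb D b := ⟨ha, fun e => h.2.1 e.symm, h.2.2.symm⟩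

theorem nb_tw {a b c : X} (h : Tw D a b) (hc : c ∈ Nb D a) : c ∈ Nb D b := by
  rwa [← show Nb D a = Nb D b from h]

theorem nb_tw' {a b c : X} (ha : a ∈ D) (hc : c ∈ D) (h : Tw D b c) (hb : b ∈ Nb D a) : c ∈ Nb D a :=
  nb_symm hc (nb_tw h (nb_symm ha hb))

theorem nb_conj (h : TSet D) {a b : X} (hb : b ∈ Nb D a) (g : X) : g * b * g⁻¹ ∈ Nb D (g * a * g⁻¹) := by
  rw [Nb_conj h]
  exact ⟨b, hb, rfl⟩

theorem not_comm_of {a b : X} (hb : b ∈ D) (h1 : b ∉ Nb D a) (h2 : a ≠ b) : ¬ Commute a b :=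
  fun h => h1 ⟨hb, fun e => h2 e.symm, h⟩

/-- an element inverting and centralizing -/
theorem eq_one_of_inv {c : X} (h : c = c⁻¹) (h3 : c ^ 3 = 1) : c = 1 := by
  have h2 : c * c = 1 := by
    nth_rewrite 2 [h]
    exact mul_inv_cancel c
  rw [pow_succ, pow_two, h2, one_mul] at h3
  exact h3

section

variable (H : Dat D x z d)

include H

theorem tr_all {e : X} (he : e ∈ D) : ∃ g : X, g * e * g⁻¹ = d 0 := by
  obtain ⟨t, ht, htz, het⟩ := H.tw e he
  obtain ⟨k, -, hk⟩ := H.tr t ht htz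
  have h1 := TSet.swap H.ts he ht (het.nc he ht)
  refine ⟨k * (e * t), ?_⟩
  have h2 : (e * t) * e * (e * t)⁻¹ = t := by
    have he' := H.ts.inv_eq he
    calc (e * t) * e * (e * t)⁻¹ = e * (t * e * t⁻¹) * e⁻¹ := by group
      _ = e * (e * t * e⁻¹) * e⁻¹ := by rw [h1]
      _ = (e * e) * t * (e⁻¹ * e⁻¹) := by group
      _ = t := by rw [he', H.ts.sq e he, one_mul, mul_one]
  calc k * (e * t) * e * (k * (e * t))⁻¹ = k * ((e * t) * e * (e * t)⁻¹) * k⁻¹ := by group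
    _ = d 0 := by rw [h2, hk]

theorem es_all {e : X} (he : e ∈ D) : ES (zpowers x) (Qc D e) := by
  obtain ⟨g, hg⟩ := tr_all H he
  have h1 := H.es.conj g⁻¹ (H.conj_Z g⁻¹) (by
    intro y hy
    have := H.conj_Z g y hy
    rwa [inv_inv])
  rw [Qc_conj H.ts, ← hg] at h1
  have e' : g⁻¹ * (g * e * g⁻¹) * g⁻¹⁻¹ = e := by group
  rwa [e'] at h1

theorem card_all {e : X} (he : e ∈ D) : Nat.card (Qc D e) = Nat.card (Qc D (d 0)) := by
  obtain ⟨g, hg⟩ := tr_all H he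
  have h1 := Qc_conj H.ts e g
  rw [hg] at h1
  rw [← h1]
  exact (Nat.card_congr ((Qc D e).equivMapOfInjective _ (MulAut.conj g).injective).toEquiv)

/-- an element of `Q` centralizing `Qc D (d 0)` commutes with `d 0` -/
theorem comm_of_cent0 {w : X} (hw : w ∈ QQ D) (hc : ∀ v ∈ Qc D (d 0), Commute w v) : Commute (d 0) w := by
  rw [QQ, H.closure_Pr, Dat.iSup_eq] at hw
  have e1 : Qc D (d 0) ⊔ Qc D (d 1) ⊔ Qc D (d 2) ⊔ Qc D (d 3) ⊔ Qc D (d 4) =
      Qc D (d 0) ⊔ (Qc D (d 1) ⊔ Qc D (d 2) ⊔ Qc D (d 3) ⊔ Qc D (d 4)) := by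
    simp only [sup_assoc]
  rw [e1] at hw
  have hR : ∀ g ∈ (Qc D (d 1) ⊔ Qc D (d 2) ⊔ Qc D (d 3) ⊔ Qc D (d 4)), ∀ c : X,
      (∀ j : Fin 5, j ≠ 0 → ∀ y ∈ Qc D (d j), Commute y c) → Commute g c := by
    intro g hg c hc
    have h3 : (Qc D (d 1) ⊔ Qc D (d 2) ⊔ Qc D (d 3) ⊔ Qc D (d 4)) ≤ Subgroup.centralizer ({c} : Set X) := by
      refine sup_le (sup_le (sup_le ?_ ?_) ?_) ?_
      · exact fun y hy => Subgroup.mem_centralizer_singleton_iff.2 (hc 1 (by decide) y hy).eq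
      · exact fun y hy => Subgroup.mem_centralizer_singleton_iff.2 (hc 2 (by decide) y hy).eq
      · exact fun y hy => Subgroup.mem_centralizer_singleton_iff.2 (hc 3 (by decide) y hy).eq
      · exact fun y hy => Subgroup.mem_centralizer_singleton_iff.2 (hc 4 (by decide) y hy).eq
    exact Subgroup.mem_centralizer_singleton_iff.1 (h3 hg)
  have hcomm : ∀ g ∈ Qc D (d 0), ∀ r ∈ (Qc D (d 1) ⊔ Qc D (d 2) ⊔ Qc D (d 3) ⊔ Qc D (d 4)), Commute g r := by
    intro g hg r hr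
    refine (hR r hr g fun j hj y hy => ?_).symm
    exact comm_Qc_Qc (H.dD j) (H.dc j 0 hj) hy hg
  obtain ⟨a, ha, r, hr, rfl⟩ := (mem_sup_of_comm hcomm).1 hw
  have h1 : a ∈ zpowers x := by
    apply H.es.nd a ha
    intro y hy
    have h2 := hc y hy
    have h3 := h2.mul_left ((hcomm y hy _ (inv_mem hr)).symm)
    rwa [mul_inv_cancel_right] at h3
  have h2 : Commute (d 0) a := by
    obtain ⟨k, rfl⟩ := h1
    exact (H.cx _ (H.dD 0)).zpow_right k
  have h3 : Commute (d 0) r := by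
    refine (hR r hr (d 0) fun j hj y hy => ?_).symm
    exact (comm_Qc (H.dc j 0 hj) hy).symm
  exact h2.mul_right h3

theorem comm_of_cent {u w : X} (hu : u ∈ D) (hw : w ∈ QQ D) (hc : ∀ v ∈ Qc D u, Commute w v) : Commute u w := by
  obtain ⟨g, hg⟩ := tr_all H hu
  have hn := H.normal_Q
  have h1 := comm_of_cent0 H (hn.conj_mem w hw g) (by
    intro v hv
    rw [← hg, ← Qc_conj H.ts] at hv
    obtain ⟨y, hy, rfl⟩ := hv
    have h2 := (hc y hy).map (MulAut.conj g).toMonoidHom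
    exact h2)
  rw [← hg] at h1
  have h2 := h1.map (MulAut.conj g⁻¹).toMonoidHom
  have e1 : ∀ y : X, (MulAut.conj g⁻¹).toMonoidHom (g * y * g⁻¹) = y := by
    intro y
    show g⁻¹ * (g * y * g⁻¹) * g⁻¹⁻¹ = y
    group
  rwa [e1, e1] at h2

/-- `r` inverts `Qc D r` modulo `⟨x⟩` -/
theorem inv_Qc {r : X} (hr : r ∈ D) {w : X} (hw : w ∈ Qc D r) : r * w * r⁻¹ * w ∈ zpowers x := by
  have E := es_all H hr
  have key : w ∈ Qc D r ∧ r * w * r⁻¹ * w ∈ zpowers x := by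
    induction hw using Subgroup.closure_induction with
    | mem y hy =>
      obtain ⟨e, he, hw, rfl⟩ := hy
      refine ⟨mem_Qc he hw, ?_⟩
      have e1 : r * (r * e) * r⁻¹ * (r * e) = 1 := by
        rw [H.ts.inv_eq hr]
        calc r * (r * e) * r * (r * e) = (r * r) * e * (r * r) * e := by simp only [mul_assoc]
          _ = 1 := by rw [H.ts.sq r hr, one_mul, mul_one, H.ts.sq e he]
      rw [e1]
      exact one_mem _
    | one => exact ⟨one_mem _, by rw [mul_one, mul_one, mul_inv_cancel]; exact one_mem _⟩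
    | mul a b _ _ iha ihb =>
      obtain ⟨ha, hk⟩ := iha
      obtain ⟨hb, hl⟩ := ihb
      refine ⟨mul_mem ha hb, ?_⟩
      have c1 := (E.cen _ hl _ (inv_mem ha)).eq
      have e1 : r * (a * b) * r⁻¹ * (a * b) = (r * a * r⁻¹ * a) * (r * b * r⁻¹ * b) * (a⁻¹ * b⁻¹ * a⁻¹⁻¹ * b⁻¹⁻¹) := by
        calc r * (a * b) * r⁻¹ * (a * b) = (r * a * r⁻¹ * a) * (a⁻¹ * (r * b * r⁻¹ * b)) * (b⁻¹ * a * b) := by group
          _ = (r * a * r⁻¹ * a) * ((r * b * r⁻¹ * b) * a⁻¹) * (b⁻¹ * a * b) := by rw [c1]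
          _ = _ := by group
      rw [e1]
      exact mul_mem (mul_mem hk hl) (E.com _ (inv_mem ha) _ (inv_mem hb))
    | inv a _ iha =>
      obtain ⟨ha, hk⟩ := iha
      refine ⟨inv_mem ha, ?_⟩
      have c1 := (E.cen _ (inv_mem hk) _ ha).eq
      have e1 : r * a⁻¹ * r⁻¹ * a⁻¹ = (r * a * r⁻¹ * a)⁻¹ := by
        calc r * a⁻¹ * r⁻¹ * a⁻¹ = a * (r * a * r⁻¹ * a)⁻¹ * a⁻¹ := by group
          _ = (r * a * r⁻¹ * a)⁻¹ * a * a⁻¹ := by rw [c1]
          _ = _ := by group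
      rw [e1]
      exact inv_mem hk
  exact key.2

/-- `Q` has exponent three, central `⟨x⟩` and so on -/
theorem comm_x {w : X} (hw : w ∈ zpowers x) {r : X} (hr : r ∈ D) : Commute r w := by
  obtain ⟨k, rfl⟩ := hw
  exact (H.cx _ hr).zpow_right k

/-- **noncommuting classes**: the elements of `Qc D r` centralizing `Qc D u` are in `⟨x⟩` -/
theorem mem_x_of_cent {r u w : X} (hr : r ∈ D) (hu : u ∈ D) (hru : ¬ Commute r u) (hw : w ∈ Qc D r)
    (hc : ∀ v ∈ Qc D u, Commute w v) : w ∈ zpowers x := by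
  have E := es_all H hr
  have h1 : Commute u w := comm_of_cent H hu (Qc_le hr hw) hc
  have h2 := inv_Qc H hr hw
  have hr' := H.ts.inv_eq hr
  have hu' := H.ts.inv_eq hu
  have sr := H.ts.sq r hr
  have su := H.ts.sq u hu
  -- `c = r (w r w⁻¹)`
  set c := r * (w * r * w⁻¹) with hcd
  have h3 : w ^ 3 = 1 := E.cub w hw
  have h4 : c = (r * w * r⁻¹ * w) * w := by
    have h5 : w * w = w⁻¹ := by
      rw [eq_inv_iff_mul_eq_one, ← pow_two, ← pow_succ]; exact h3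
    rw [hcd, hr', mul_assoc (r * w * r), h5]
    simp only [mul_assoc]
  have h5 : Commute u c := by
    rw [h4]
    exact (comm_x H h2 hu).mul_right h1
  have h6 : r * c * r⁻¹ = c⁻¹ := by
    rw [hcd, mul_inv_rev, mul_inv_rev, mul_inv_rev, inv_inv, hr']
    calc r * (r * (w * r * w⁻¹)) * r = (r * r) * (w * r * w⁻¹) * r := by simp only [mul_assoc]
      _ = w * (r * w⁻¹) * r := by rw [sr, one_mul, mul_assoc w]
  have h7 : c ^ 3 = 1 := by
    apply E.cub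
    rw [h4]
    exact mul_mem (E.le h2) hw
  have h8 : r * u * r = u * r * u := (H.ts.tri r hr u hu).resolve_left hru
  have h9 : (r * u * r) * c * (r * u * r)⁻¹ = c := by
    have e1 : r⁻¹ * c * r = c⁻¹ := by
      rw [hr'] at h6 ⊢
      exact h6
    have e2 : r * c⁻¹ * r⁻¹ = c := by
      rw [← e1]; group
    calc (r * u * r) * c * (r * u * r)⁻¹ = r * (u * (r * c * r⁻¹) * u⁻¹) * r⁻¹ := by group
      _ = r * (u * c⁻¹ * u⁻¹) * r⁻¹ := by rw [h6]
      _ = r * c⁻¹ * r⁻¹ := by rw [h5.inv_right.eq, mul_inv_cancel_right]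
      _ = c := e2
  have h10 : (u * r * u) * c * (u * r * u)⁻¹ = c⁻¹ := by
    calc (u * r * u) * c * (u * r * u)⁻¹ = u * (r * (u * c * u⁻¹) * r⁻¹) * u⁻¹ := by group
      _ = u * (r * c * r⁻¹) * u⁻¹ := by rw [h5.eq, mul_inv_cancel_right]
      _ = c⁻¹ := by rw [h6, h5.inv_right.eq, mul_inv_cancel_right]
  rw [h8, h10] at h9
  have h11 := eq_one_of_inv h9.symm h7
  rw [h4] at h11
  rw [eq_inv_of_mul_eq_one_right h11]
  exact inv_mem h2

end

end Cfsg.Agent.H597.OreFi
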