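import Cfsg.Agent.H597.OreFi.RankA

/-!
# Elements of the centralizer of `x` acting on `Q` (helper597), part B: the first two cases
-/

set_option autoImplicit false
set_option linter.unusedSectionVars false

namespace Cfsg.Agent.H597.OreFi

open Subgroup
open Cfsg.Agent.LThreeFi24.Comp Cfsg.Agent.LThreeFi24.Twin Cfsg.Agent.H841.Ext

variable {X : Type*} [Group X] {D : Set X} {x z : X} {d : Fin 5 → X}

theorem card_of_inf [Finite X] {g : X} {A Q Z : Subgroup X} (hA : A ≤ Q) (hcA : Nat.card A = 3 ^ 5)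
    (hQ : Nat.card Q = 3 ^ 11) (hZ : Nat.card Z = 3) (h : ∀ w ∈ A, g * w * g⁻¹ = w → w ∈ Z) :
    Nat.card ↥(centralizer ({g} : Set X) ⊓ Q) ≤ 3 ^ 7 := by
  set C : Subgroup X := centralizer ({g} : Set X) ⊓ Q with hC
  have h1 : C.relIndex A ≤ C.relIndex Q := relIndex_le_of_le_right hA (C.subgroupOf Q).index_ne_zero_of_finite
  have h2 : Nat.card C * C.relIndex Q = 3 ^ 11 := by
    have h3 := (C.subgroupOf Q).card_mul_index
    rw [Nat.card_congr (Subgroup.subgroupOfEquivOfLe (show C ≤ Q from inf_le_right)).toEquiv, hQ] at h3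
    exact h3
  have h4 : Nat.card ↥(C ⊓ A) * C.relIndex A = 3 ^ 5 := by
    have h3 := (C.subgroupOf A).card_mul_index
    rw [← Subgroup.inf_subgroupOf_right, Nat.card_congr (Subgroup.subgroupOfEquivOfLe (show C ⊓ A ≤ A from inf_le_right)).toEquiv,
      hcA, Subgroup.inf_subgroupOf_right] at h3
    exact h3
  have h5 : Nat.card ↥(C ⊓ A) ≤ 3 := by
    rw [← hZ]
    apply Subgroup.card_le_of_le
    rintro w ⟨⟨hw1, -⟩, hw2⟩
    apply h w hw2
    have h6 : w * g = g * w := mem_centralizer_singleton_iff.1 hw1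
    rw [← h6, mul_inv_cancel_right]
  have h6 : 81 ≤ C.relIndex A := by
    by_contra hcon
    push Not at hcon
    have : Nat.card ↥(C ⊓ A) * C.relIndex A ≤ 3 * 80 := Nat.mul_le_mul h5 (by omega)
    omega
  by_contra hcon
  push Not at hcon
  have h7 : (3 ^ 7 + 1) * 81 ≤ Nat.card C * C.relIndex Q := Nat.mul_le_mul (by omega) (h6.trans h1)
  rw [h2] at h7
  norm_num at h7

/-- no member of `D` is moved to a neighbour -/
def NoA (D : Set X) (g : X) : Prop := ∀ p ∈ D, g * p * g⁻¹ ∉ Nb D p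

theorem comm_zp {g w : X} (hg : Commute g x) (hw : w ∈ zpowers x) : Commute g w := by
  obtain ⟨k, rfl⟩ := hw
  exact hg.zpow_right k

theorem mem_of_conj_mem {g w : X} (hg : Commute g x) (hw : g * w * g⁻¹ ∈ zpowers x) : w ∈ zpowers x := by
  have h1 := (comm_zp hg hw).eq
  have h2 : g * w = w * g⁻¹⁻¹ ∨ True := Or.inr trivial
  have h3 : w = g * w * g⁻¹ := by
    have h4 : g⁻¹ * (g * (g * w * g⁻¹)) * g⁻¹⁻¹ = g⁻¹ * ((g * w * g⁻¹) * g) * g⁻¹⁻¹ := by rw [h1]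
    have h5 : g⁻¹ * ((g * w * g⁻¹) * g) * g⁻¹⁻¹ = w * g := by group
    have h6 : g⁻¹ * (g * (g * w * g⁻¹)) * g⁻¹⁻¹ = g * w := by group
    rw [h5, h6] at h4
    rw [h4, mul_inv_cancel_right]
  rw [h3]
  exact hw

section

variable (H : Dat D x z d)

include H

theorem iter_tw {g p : X} (h : Tw D p (g * p * g⁻¹)) : ∀ k : ℕ, Tw D p (g ^ k * p * (g ^ k)⁻¹)
  | 0 => by
    rw [pow_zero, one_mul, inv_one, mul_one]
    exact Tw.refl p
  | k + 1 => by
    have h1 := (iter_tw h k).conj H.ts g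
    have e1 : g * (g ^ k * p * (g ^ k)⁻¹) * g⁻¹ = g ^ (k + 1) * p * (g ^ (k + 1))⁻¹ := by
      rw [pow_succ']; group
    rw [e1] at h1
    exact h.trans h1

/-- a 3-element whose square fixes a class fixes the class -/
theorem tw_of_sq {g p : X} {n : ℕ} (hn : g ^ 3 ^ n = 1) (h : Tw D p (g * (g * p * g⁻¹) * g⁻¹)) :
    Tw D p (g * p * g⁻¹) := by
  have e1 : g * (g * p * g⁻¹) * g⁻¹ = g ^ 2 * p * (g ^ 2)⁻¹ := by rw [pow_two]; group
  rw [e1] at h
  have h1 := iter_tw H h ((3 ^ n + 1) / 2)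
  have h2 : (g ^ 2) ^ ((3 ^ n + 1) / 2) = g := by
    have ho : Odd (3 ^ n) := Odd.pow (by decide)
    have h3 : 2 * ((3 ^ n + 1) / 2) = 3 ^ n + 1 := by
      obtain ⟨m, hm⟩ := ho
      omega
    rw [← pow_mul, h3, pow_succ, hn, one_mul]
  rwa [h2] at h1

theorem qc_comm {a b : X} (ha : a ∈ D) (hb : b ∈ Nb D a) : ∀ u ∈ Qc D a, ∀ v ∈ Qc D b, Commute u v :=
  fun _ hu _ hv => comm_Qc_Qc ha hb hu hv

theorem card_sup_two [Finite X] (hc : Nat.card (Qc D (d 0)) = 27) (hx : Nat.card (zpowers x) = 3) {p q : X} (hp : p ∈ D)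
    (hq : q ∈ Nb D p) : Nat.card ↥(Qc D p ⊔ Qc D q) = 3 ^ 5 := by
  have h1 := (es_all H hp).card_sup (es_all H hq.1) (qc_comm H hp hq)
  rw [hx, card_all H hp, card_all H hq.1, hc] at h1
  omega

/-- **Case A**: a member of `D` is moved to a neighbour -/
theorem caseA [Finite X] (Gm : Geo D z) (hc : Nat.card (Qc D (d 0)) = 27) (hx : Nat.card (zpowers x) = 3) {g : X}
    (hg : Commute g x) {n : ℕ} (hn : g ^ 3 ^ n = 1) {p : X} (hp : p ∈ D) (h : g * p * g⁻¹ ∈ Nb D p) :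
    Nat.card ↥(centralizer ({g} : Set X) ⊓ QQ D) ≤ 3 ^ 7 := by
  have hq : g * p * g⁻¹ ∈ D := h.1
  have hr' := nb_conj H.ts h g
  have hr : g * (g * p * g⁻¹) * g⁻¹ ∈ D := hr'.1
  have hnt : ¬ Tw D p (g * p * g⁻¹) := by
    intro h1
    have h2 := nb_tw h1 h
    exact h2.2.1 rfl
  have hnt2 : ¬ Tw D p (g * (g * p * g⁻¹) * g⁻¹) := fun h1 => hnt (tw_of_sq H hn h1)
  have hpq := nb_symm hp h
  refine card_of_inf (A := Qc D p ⊔ Qc D (g * p * g⁻¹)) (sup_le (Qc_le hp) (Qc_le hq)) (card_sup_two H hc hx hp h)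
    (H.es_card hc hx).2 hx ?_
  intro w hw hgw
  obtain ⟨a, ha, b, hb, rfl⟩ := (mem_sup_of_comm (qc_comm H hp h)).1 hw
  have hc' : g * a * g⁻¹ ∈ Qc D (g * p * g⁻¹) := conj_mem_Qc H.ts ha
  have he' : g * b * g⁻¹ ∈ Qc D (g * (g * p * g⁻¹) * g⁻¹) := conj_mem_Qc H.ts hb
  set c := g * a * g⁻¹ with hcd
  set e := g * b * g⁻¹ with hed
  have e1 : c * e = a * b := by rw [← hgw, hcd, hed]; group
  have c1 := (qc_comm H hp h a ha _ (inv_mem hc')).eq
  have e2 : e = a * (c⁻¹ * b) := by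
    calc e = c⁻¹ * (c * e) := by group
      _ = (c⁻¹ * a) * b := by rw [e1]; group
      _ = a * (c⁻¹ * b) := by rw [← c1]; group
  have hb' : c⁻¹ * b ∈ Qc D (g * p * g⁻¹) := mul_mem (inv_mem hc') hb
  have heZ : e ∈ zpowers x := by
    by_cases hrp : g * (g * p * g⁻¹) * g⁻¹ ∈ Nb D p
    · apply (es_all H hr).nd e he'
      intro y hy
      rw [e2]
      exact (qc_comm H hp hrp a ha y hy).mul_left (qc_comm H hq hr' _ hb' y hy)
    · obtain ⟨u, -, -, hu1, -, -, hu2, -⟩ := Gm.five p hp _ h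
      refine mem_x_of_cent H hr hu1.1 (not_comm_of hu1.1 ?_ ?_) he' ?_
      · intro hur
        rcases Gm.line _ hq _ hr' u hu2 p hpq (Or.inl hur) (Or.inl (nb_symm hp hu1)) with h3 | h3
        · exact hrp (nb_symm hr h3)
        · exact hnt2 h3.symm
      · intro hur
        rw [hur] at hrp
        exact hrp hu1
      · intro y hy
        rw [e2]
        exact (qc_comm H hp hu1 a ha y hy).mul_left (qc_comm H hq hu2 _ hb' y hy)
  have hbZ : b ∈ zpowers x := mem_of_conj_mem hg heZ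
  have haZ : a ∈ zpowers x := by
    have h3 : a ∈ Qc D p ⊓ Qc D (g * p * g⁻¹) := by
      refine Subgroup.mem_inf.2 ⟨ha, ?_⟩
      have h4 : a = e * (c⁻¹ * b)⁻¹ := by rw [e2, mul_inv_cancel_right]
      rw [h4]
      exact mul_mem ((es_all H hq).le heZ) (inv_mem hb')
    rwa [(es_all H hp).inf (es_all H hq) (qc_comm H hp h)] at h3
  exact mul_mem haZ hbZ

/-- **Case B**: `a` commutes with `p` and with the image of `p`, and its class is moved -/
theorem caseB [Finite X] (Gm : Geo D z) (hc : Nat.card (Qc D (d 0)) = 27) (hx : Nat.card (zpowers x) = 3) {g : X}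
    (hg : Commute g x) (hno : NoA D g) {p a : X} (hp : p ∈ D) (hpt : ¬ Tw D p (g * p * g⁻¹)) (ha : a ∈ Nb D p)
    (hqa : g * p * g⁻¹ ∈ Nb D a) (hat : ¬ Tw D a (g * a * g⁻¹)) :
    Nat.card ↥(centralizer ({g} : Set X) ⊓ QQ D) ≤ 3 ^ 7 := by
  obtain ⟨s, -, -, hsp, -, -, hsa, -⟩ := Gm.five p hp a ha
  have hq : g * p * g⁻¹ ∈ D := hqa.1
  have htq := nb_conj H.ts hsp g
  have haq := nb_conj H.ts ha g
  have hat' : g * a * g⁻¹ ∈ Nb D (g * s * g⁻¹) := nb_conj H.ts (nb_symm ha.1 hsa) g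
  have haq' : a ∈ Nb D (g * p * g⁻¹) := nb_symm ha.1 hqa
  have ht : g * s * g⁻¹ ∈ D := htq.1
  refine card_of_inf (A := Qc D p ⊔ Qc D s) (sup_le (Qc_le hp) (Qc_le hsp.1)) (card_sup_two H hc hx hp hsp)
    (H.es_card hc hx).2 hx ?_
  intro w hw hgw
  obtain ⟨u, hu, v, hv, rfl⟩ := (mem_sup_of_comm (qc_comm H hp hsp)).1 hw
  have hu' : g * u * g⁻¹ ∈ Qc D (g * p * g⁻¹) := conj_mem_Qc H.ts hu
  have hv' : g * v * g⁻¹ ∈ Qc D (g * s * g⁻¹) := conj_mem_Qc H.ts hv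
  set u' := g * u * g⁻¹ with hud
  set v' := g * v * g⁻¹ with hvd
  have e1 : u' * v' = u * v := by rw [← hgw, hud, hvd]; group
  have e2 : v' = u'⁻¹ * u * v := by
    calc v' = u'⁻¹ * (u' * v') := by group
      _ = _ := by rw [e1]; group
  have hvZ : v' ∈ zpowers x := by
    refine mem_x_of_cent H ht ha.1 (not_comm_of ha.1 ?_ ?_) hv' ?_
    · intro h1
      rcases Gm.line _ hq a haq' _ htq _ haq (Or.inl (nb_symm ht h1)) (Or.inl hat') with h3 | h3
      · exact hno a ha.1 h3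
      · exact hat h3
    · intro h1
      rw [h1] at hat'
      exact hno a ha.1 hat'
    · intro y hy
      rw [e2]
      refine (Commute.mul_left ?_ (qc_comm H hp ha u hu y hy)).mul_left (qc_comm H hsp.1 (nb_symm ha.1 hsa) v hv y hy)
      exact (qc_comm H hq haq' _ hu' y hy).inv_left
  have hvZ' : v ∈ zpowers x := mem_of_conj_mem hg hvZ
  have e3 : u' = u * (v * v'⁻¹) := by
    calc u' = (u' * v') * v'⁻¹ := by group
      _ = _ := by rw [e1]; group
  have huZ : u' ∈ zpowers x := by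
    refine mem_x_of_cent H hq hsp.1 (not_comm_of hsp.1 ?_ ?_) hu' ?_
    · intro h1
      rcases Gm.line a ha.1 p (nb_symm hp ha) s hsa _ hqa (Or.inl hsp) (Or.inl (nb_symm hq h1)) with h3 | h3
      · exact hno p hp h3
      · exact hpt h3
    · intro h1
      apply hno p hp
      rw [h1]
      exact hsp
    · intro y hy
      rw [e3]
      refine (qc_comm H hp hsp u hu y hy).mul_left ?_
      exact (es_all H hsp.1).cen _ (mul_mem hvZ' (inv_mem hvZ)) y hy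
  exact mul_mem (mem_of_conj_mem hg huZ) hvZ'

/-- **Case C**: in the other cases, every line through a moved class has a fixed class -/
theorem caseC (Gm : Geo D z) {g : X} (hno : NoA D g)
    (hB : ∀ p ∈ D, ∀ a ∈ Nb D p, ¬ Tw D p (g * p * g⁻¹) → g * p * g⁻¹ ∈ Nb D a → Tw D a (g * a * g⁻¹)) {p b : X}
    (hp : p ∈ D) (hpt : ¬ Tw D p (g * p * g⁻¹)) (hb : b ∈ Nb D p) :
    ∃ a ∈ Nb D p, (a ∈ Nb D b ∨ Tw D b a) ∧ Tw D a (g * a * g⁻¹) := by
  obtain ⟨a, ha, h1, h2⟩ := Gm.proj p hp b hb (g * p * g⁻¹) (H.ts.cj p hp g) (hno p hp) hpt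
  exact ⟨a, ha, h1, hB p hp a ha hpt h2⟩

end

end Cfsg.Agent.H597.OreFi
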