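import Cfsg.Agent.H597.OreFi.RankB

/-!
# Elements of the centralizer of `x` acting on `Q` (helper597), part C: five commuting fixed classes
-/

set_option autoImplicit false
set_option linter.unusedSectionVars false

namespace Cfsg.Agent.H597.OreFi

open Subgroup
open Cfsg.Agent.LThreeFi24.Comp Cfsg.Agent.LThreeFi24.Twin Cfsg.Agent.H841.Ext

variable {X : Type*} [Group X] {D : Set X} {x z : X} {d : Fin 5 → X}

section

variable (H : Dat D x z d)

include H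

/-! ### The action on `T0` -/

theorem un_T0 {t t' : X} (ht : t ∈ T0 D z) (ht' : t' ∈ T0 D z) (h : Tw D t t') : t = t' := by
  obtain ⟨k, hk, hkt⟩ := H.tr t ht.1 ht.2
  have h1 : Commute (k * t' * k⁻¹) z := (hk.mul_left ht'.2).mul_left hk.inv_left
  have h2 : Tw D (d 0) (k * t' * k⁻¹) := by
    rw [← hkt]
    exact h.conj H.ts k
  have h3 := H.un _ (H.ts.cj t' ht'.1 k) h1 h2
  have h4 : k * t' * k⁻¹ = k * t * k⁻¹ := by rw [h3, hkt]
  exact (mul_left_cancel (mul_right_cancel h4)).symm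

theorem exists_sg (g : X) : ∃ σ : ↥(T0 D z) → ↥(T0 D z), ∀ t : ↥(T0 D z), Tw D (g * (t : X) * g⁻¹) (σ t) := by
  have h : ∀ t : ↥(T0 D z), ∃ s : ↥(T0 D z), Tw D (g * (t : X) * g⁻¹) s := by
    intro t
    obtain ⟨s, hs, hsz, hts⟩ := H.tw _ (H.ts.cj _ t.2.1 g)
    exact ⟨⟨s, hs, hsz⟩, hts⟩
  choose σ hσ using h
  exact ⟨σ, hσ⟩

theorem exists_perm [Finite X] (g : X) : ∃ σ : Equiv.Perm ↥(T0 D z), ∀ t : ↥(T0 D z), Tw D (g * (t : X) * g⁻¹) (σ t) := by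
  obtain ⟨σ, hσ⟩ := exists_sg H g
  have hinj : Function.Injective σ := by
    intro t t' h
    have h1 : Tw D (g * (t : X) * g⁻¹) (g * (t' : X) * g⁻¹) := (hσ t).trans (h ▸ (hσ t').symm)
    have h2 := h1.conj H.ts g⁻¹
    have e : ∀ y : X, g⁻¹ * (g * y * g⁻¹) * g⁻¹⁻¹ = y := by intro y; group
    rw [e, e] at h2
    exact Subtype.ext (un_T0 H t.2 t'.2 h2)
  exact ⟨Equiv.ofBijective σ (Finite.injective_iff_bijective.1 hinj), hσ⟩

theorem pow_perm {g : X} {σ : Equiv.Perm ↥(T0 D z)} (hσ : ∀ t : ↥(T0 D z), Tw D (g * (t : X) * g⁻¹) (σ t)) (k : ℕ)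
    (t : ↥(T0 D z)) : Tw D (g ^ k * (t : X) * (g ^ k)⁻¹) ((σ ^ k) t) := by
  induction k with
  | zero =>
    rw [pow_zero, pow_zero, one_mul, inv_one, mul_one]
    exact Tw.refl _
  | succ k ih =>
    have h1 := ih.conj H.ts g
    have e1 : g * (g ^ k * (t : X) * (g ^ k)⁻¹) * g⁻¹ = g ^ (k + 1) * (t : X) * (g ^ (k + 1))⁻¹ := by
      rw [pow_succ']; group
    rw [e1] at h1
    have e2 : (σ ^ (k + 1)) t = σ ((σ ^ k) t) := by rw [pow_succ' σ, Equiv.Perm.mul_apply]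
    rw [e2]
    exact h1.trans (hσ _)

/-- **a fixed point outside the line** -/
theorem fixp [Finite X] (Gm : Geo D z) {g : X} {n : ℕ} (hn : g ^ 3 ^ n = 1) {e a : X} (he : e ∈ D)
    (het : Tw D e (g * e * g⁻¹)) (ha : a ∈ Nb D e) (hat : Tw D a (g * a * g⁻¹)) :
    ∃ p ∈ Nb D e, p ∉ Nb D a ∧ ¬ Tw D a p ∧ Tw D p (g * p * g⁻¹) := by
  obtain ⟨e0, he0, hez, hee⟩ := H.tw e he
  obtain ⟨a0, ha0, haz, haa⟩ := H.tw a ha.1
  obtain ⟨σ, hσ⟩ := exists_perm H g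
  have ha1 : a0 ∈ Nb D e := nb_tw' he ha0 haa ha
  have ha2 : a0 ∈ Nb D e0 := nb_tw hee ha1
  -- the set
  let S : Set ↥(T0 D z) := {t | (t : X) ∈ Nb D e0 ∧ ¬ ((t : X) = a0 ∨ (t : X) ∈ Nb D a0)}
  have hfe : Tw D e0 (g * e0 * g⁻¹) := (hee.symm.trans het).trans (hee.conj H.ts g)
  have hfa : Tw D a0 (g * a0 * g⁻¹) := (haa.symm.trans hat).trans (haa.conj H.ts g)
  have hS : ∀ t, t ∈ S → σ t ∈ S := by
    rintro t ⟨h1, h2⟩
    refine ⟨?_, ?_⟩
    · have h3 := nb_conj H.ts h1 g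
      exact nb_tw' he0 (σ t).2.1 (hσ t) (nb_tw hfe.symm h3)
    · rintro (h3 | h3)
      · apply h2
        left
        have h4 : Tw D (g * (t : X) * g⁻¹) (g * a0 * g⁻¹) := ((hσ t).trans (h3 ▸ Tw.refl _)).trans hfa
        have h5 := h4.conj H.ts g⁻¹
        have e : ∀ y : X, g⁻¹ * (g * y * g⁻¹) * g⁻¹⁻¹ = y := by intro y; group
        rw [e, e] at h5
        exact un_T0 H t.2 ⟨ha0, haz⟩ h5
      · apply h2
        right
        have h4 : g * (t : X) * g⁻¹ ∈ Nb D a0 := nb_tw' ha0 (H.ts.cj _ t.2.1 g) (hσ t).symm h3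
        have h5 := nb_conj H.ts (nb_tw hfa h4) g⁻¹
        have e : ∀ y : X, g⁻¹ * (g * y * g⁻¹) * g⁻¹⁻¹ = y := by intro y; group
        rwa [e, e] at h5
  have hScard : Nat.card S = 32 := by
    have h1 := Gm.cN e0 ⟨he0, hez⟩
    have h2 := Gm.cL e0 ⟨he0, hez⟩ a0 ⟨ha2, ha0, haz⟩
    have h3 : Subtype.val '' S = (Nb D e0 ∩ T0 D z) \ {a | a ∈ Nb D e0 ∩ T0 D z ∧ (a = a0 ∨ a ∈ Nb D a0)} := by
      ext y
      constructor
      · rintro ⟨t, ⟨h3, h4⟩, rfl⟩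
        exact ⟨⟨h3, t.2⟩, fun h5 => h4 h5.2⟩
      · rintro ⟨⟨h3, h4⟩, h5⟩
        exact ⟨⟨y, h4⟩, ⟨h3, fun h6 => h5 ⟨⟨h3, h4⟩, h6⟩⟩, rfl⟩
    rw [Nat.card_coe_set_eq, ← Set.ncard_image_of_injective S Subtype.val_injective, h3, Set.ncard_sdiff]
    · rw [h1, h2]
    · exact fun y hy => hy.1
  have hpow : σ ^ 3 ^ n = 1 := by
    ext1 t
    have h1 := pow_perm H hσ (3 ^ n) t
    rw [hn, one_mul, inv_one, mul_one] at h1
    rw [Equiv.Perm.one_apply]
    exact Subtype.ext (un_T0 H (Subtype.coe_prop _) t.2 h1.symm)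
  have : Fact (Nat.Prime 3) := ⟨Nat.prime_three⟩
  have hfin : Fintype S := Fintype.ofFinite _
  have hiff : ∀ t, t ∈ S ↔ σ t ∈ S := by
    intro t
    constructor
    · exact hS t
    · intro h1
      have h2 : ∀ k : ℕ, (σ ^ k) (σ t) ∈ S := by
        intro k
        induction k with
        | zero => exact h1
        | succ k ih =>
          rw [pow_succ', Equiv.Perm.mul_apply]
          exact hS _ ih
      have h3 := h2 (3 ^ n - 1)
      have h4 : (σ ^ (3 ^ n - 1)) (σ t) = t := by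
        rw [← Equiv.Perm.mul_apply, ← pow_succ, Nat.sub_add_cancel (Nat.one_le_pow _ _ (by norm_num)), hpow]
        rfl
      rwa [h4] at h3
  let τ : Equiv.Perm S := σ.subtypePerm fun t => (hiff t).symm
  have hτ : τ ^ 3 ^ n = 1 := by
    ext1 t
    apply Subtype.ext
    have h1 : ∀ k : ℕ, (((τ ^ k) t : S) : ↥(T0 D z)) = (σ ^ k) t := by
      intro k
      induction k with
      | zero => rfl
      | succ k ih =>
        rw [pow_succ', pow_succ', Equiv.Perm.mul_apply, Equiv.Perm.mul_apply, ← ih]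
        rfl
    rw [h1, hpow]
    rfl
  obtain ⟨t, ht⟩ := Equiv.Perm.exists_fixed_point_of_prime (p := 3) (n := n) (by
    rw [← Nat.card_eq_fintype_card, hScard]
    norm_num) hτ
  have ht' : σ t = t := congrArg Subtype.val ht
  obtain ⟨h1, h2⟩ := t.2
  have h3 : ((t : ↥(T0 D z)) : X) ∈ Nb D e := nb_tw hee.symm h1
  refine ⟨((t : ↥(T0 D z)) : X), h3, ?_, ?_, ?_⟩
  · intro h4
    exact h2 (Or.inr (nb_tw haa h4))
  · intro h4
    apply h2
    left
    exact un_T0 H (t : ↥(T0 D z)).2 ⟨ha0, haz⟩ (h4.symm.trans haa)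
  · have h4 := hσ t
    rw [ht'] at h4
    exact h4.symm

end

end Cfsg.Agent.H597.OreFi
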