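import Cfsg.Agent.H597.OreFi.RankC

/-!
# Elements of the centralizer of `x` acting on `Q` (helper597), part D: two commuting fixed classes
-/

set_option autoImplicit false
set_option linter.unusedSectionVars false

namespace Cfsg.Agent.H597.OreFi

open Subgroup
open Cfsg.Agent.LThreeFi24.Comp Cfsg.Agent.LThreeFi24.Twin Cfsg.Agent.H841.Ext

variable {X : Type*} [Group X] {D : Set X} {x z : X} {d : Fin 5 → X}

/-- `g` centralizes `Qc D e` modulo `⟨x⟩` -/
def Triv (D : Set X) (x g e : X) : Prop := ∀ w ∈ Qc D e, g * w * g⁻¹ * w⁻¹ ∈ zpowers x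

/-- the stage of the construction of a group without fixed elements -/
structure Stg (x g : X) (P Hl : Subgroup X) (m : ℕ) : Prop where
  es : ES (zpowers x) Hl
  zle : zpowers x ≤ P
  ple : P ≤ Hl
  cj : ∀ y ∈ Hl, g * y * g⁻¹ ∈ Hl
  card : Nat.card P = 3 ^ m
  fix : ∀ y ∈ P, g * y * g⁻¹ = y → y ∈ zpowers x

theorem Stg.start {g : X} (hx : Nat.card (zpowers x) = 3) (hg : Commute g x) :
    Stg x g (zpowers x) (zpowers x) 1 where
  es :=
    { le := le_rfl
      cen := by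
        rintro _ ⟨i, rfl⟩ _ ⟨j, rfl⟩
        exact ((Commute.refl x).zpow_left i).zpow_right j
      com := by
        rintro _ ⟨i, rfl⟩ _ ⟨j, rfl⟩
        exact mul_mem (mul_mem (mul_mem ⟨i, rfl⟩ ⟨j, rfl⟩) (inv_mem ⟨i, rfl⟩)) (inv_mem ⟨j, rfl⟩)
      cub := by
        intro y hy
        have h1 := pow_card_eq_one' (G := zpowers x) (x := ⟨y, hy⟩)
        rw [hx] at h1
        exact congrArg Subtype.val h1
      nd := fun y hy _ => hy }
  zle := le_rfl
  ple := le_rfl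
  cj := by
    intro y hy
    rwa [(comm_zp hg hy).eq, mul_inv_cancel_right]
  card := by rw [hx, pow_one]
  fix := fun y hy _ => hy

theorem Stg.step [Finite X] {g : X} {P Hl R : Subgroup X} {m : ℕ} (h : Stg x g P Hl m) (hR : ES (zpowers x) R)
    (hcm : ∀ a ∈ Hl, ∀ b ∈ R, Commute a b) (hcj : ∀ y ∈ R, g * y * g⁻¹ ∈ R) {w : X} (hw : w ∈ R)
    (hgw : g * w * g⁻¹ * w⁻¹ ∉ zpowers x) : Stg x g (P ⊔ zpowers w) (Hl ⊔ R) (m + 1) := by
  have hwR : zpowers w ≤ R := by rw [zpowers_le]; exact hw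
  have w3 : w ^ 3 = 1 := hR.cub w hw
  have hw1 : w ≠ 1 := by
    rintro rfl
    apply hgw
    have : g * 1 * g⁻¹ * 1⁻¹ = 1 := by group
    rw [this]
    exact one_mem _
  have hcm' : ∀ a ∈ P, ∀ b ∈ zpowers w, Commute a b := fun a ha b hb => hcm a (h.ple ha) b (hwR hb)
  -- powers of `w`
  have hpw : ∀ y ∈ zpowers w, y ≠ 1 → g * y * g⁻¹ * y⁻¹ ∉ zpowers x := by
    intro y hy hy1 hyx
    have h1 : y = w ∨ y = w⁻¹ := by
      obtain ⟨k, rfl⟩ := hy
      have h2 : k % 3 = 0 ∨ k % 3 = 1 ∨ k % 3 = 2 := by omega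
      have h3 : w ^ (3 : ℤ) = 1 := by rw [zpow_ofNat]; exact w3
      have h4 : w ^ k = w ^ (k % 3) := by
        conv_lhs => rw [← Int.emod_add_mul_ediv k 3, zpow_add, zpow_mul, h3, one_zpow, mul_one]
      rcases h2 with h2 | h2 | h2
      · exact absurd (by show w ^ k = 1; rw [h4, h2, zpow_zero]) hy1
      · left
        show w ^ k = w
        rw [h4, h2, zpow_one]
      · right
        show w ^ k = w⁻¹
        rw [h4, h2, eq_inv_iff_mul_eq_one, ← zpow_add_one]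
        exact h3
    rcases h1 with rfl | rfl
    · exact hgw hyx
    · apply hgw
      have h2 : g * w * g⁻¹ * w⁻¹ = w * (g * w⁻¹ * g⁻¹ * w⁻¹⁻¹)⁻¹ * w⁻¹ := by group
      rw [h2, ← (hR.cen _ (inv_mem hyx) w hw).eq, mul_inv_cancel_right]
      exact inv_mem hyx
  have hZR : ∀ y ∈ zpowers w, y ∈ zpowers x → y = 1 := by
    intro y hy hyx
    by_contra hy1
    apply hpw y hy hy1
    have h1 : g * y * g⁻¹ ∈ zpowers x := by
      have h2 := h.cj y (h.es.le hyx)
      have h3 := hcj y (hR.le hyx)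
      have h4 : g * y * g⁻¹ ∈ Hl ⊓ R := ⟨h2, h3⟩
      rwa [h.es.inf hR hcm] at h4
    exact mul_mem h1 (inv_mem hyx)
  have hinf : P ⊓ zpowers w = ⊥ := by
    rw [eq_bot_iff]
    rintro y ⟨h1, h2⟩
    rw [Subgroup.mem_bot]
    apply hZR y h2
    have h4 : y ∈ Hl ⊓ R := ⟨h.ple h1, hwR h2⟩
    rwa [h.es.inf hR hcm] at h4
  refine ⟨h.es.sup hR hcm, h.zle.trans le_sup_left, sup_le_sup h.ple hwR, ?_, ?_, ?_⟩
  · intro y hy
    obtain ⟨a, ha, b, hb, rfl⟩ := (mem_sup_of_comm hcm).1 hy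
    have e1 : g * (a * b) * g⁻¹ = (g * a * g⁻¹) * (g * b * g⁻¹) := by group
    rw [e1]
    exact mul_mem (Subgroup.mem_sup_left (h.cj a ha)) (Subgroup.mem_sup_right (hcj b hb))
  · have h1 := card_sup_of_comm hcm'
    have : Fact (Nat.Prime 3) := ⟨Nat.prime_three⟩
    rw [hinf, Subgroup.card_bot, mul_one, h.card, Nat.card_zpowers, orderOf_eq_prime w3 hw1] at h1
    rw [h1, pow_succ]
  · intro y hy hgy
    obtain ⟨a, ha, b, hb, rfl⟩ := (mem_sup_of_comm hcm').1 hy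
    have ga := h.cj a (h.ple ha)
    have gb := hcj b (hwR hb)
    have e1 : (g * a * g⁻¹) * (g * b * g⁻¹) = a * b := by
      calc (g * a * g⁻¹) * (g * b * g⁻¹) = g * (a * b) * g⁻¹ := by group
        _ = _ := hgy
    have e2 : a⁻¹ * (g * a * g⁻¹) = b * (g * b * g⁻¹)⁻¹ := by
      calc a⁻¹ * (g * a * g⁻¹) = a⁻¹ * ((g * a * g⁻¹) * (g * b * g⁻¹)) * (g * b * g⁻¹)⁻¹ := by group
        _ = _ := by rw [e1]; group
    have h3 : b * (g * b * g⁻¹)⁻¹ ∈ zpowers x := by
      have h4 : b * (g * b * g⁻¹)⁻¹ ∈ Hl ⊓ R := by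
        refine Subgroup.mem_inf.2 ⟨?_, mul_mem (hwR hb) (inv_mem gb)⟩
        rw [← e2]
        exact mul_mem (inv_mem (h.ple ha)) ga
      rwa [h.es.inf hR hcm] at h4
    have h4 : b = 1 := by
      by_contra hb1
      apply hpw b hb hb1
      have h5 := inv_mem h3
      rwa [mul_inv_rev, inv_inv] at h5
    subst h4
    rw [mul_one] at hgy ⊢
    exact h.fix a ha hgy

section

variable (H : Dat D x z d)

include H

theorem qc_cj {g e : X} (he : e ∈ D) (het : Tw D e (g * e * g⁻¹)) : ∀ y ∈ Qc D e, g * y * g⁻¹ ∈ Qc D e := by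
  intro y hy
  have h1 := conj_mem_Qc H.ts (g := g) hy
  rwa [← Qc_eq H.ts he (H.ts.cj e he g) het] at h1

/-- commutators with elements centralized modulo `⟨x⟩` -/
theorem comm_of_triv [Finite X] (hc : Nat.card (Qc D (d 0)) = 27) (hx : Nat.card (zpowers x) = 3) {g e w' : X}
    (hg : Commute g x) (he : e ∈ D) (hT : Triv D x g e) (hw' : w' ∈ QQ D) :
    ∀ w ∈ Qc D e, Commute (g * w' * g⁻¹ * w'⁻¹) w := by
  intro w hw
  have E := (H.es_card hc hx).1
  have hwQ : w ∈ QQ D := Qc_le he hw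
  have hn := H.normal_Q
  have hk := hT w hw
  set k := g * w * g⁻¹ * w⁻¹ with hkd
  set v := g * w' * g⁻¹ * w'⁻¹ with hvd
  have hv : v ∈ QQ D := mul_mem (hn.conj_mem w' hw' g) (inv_mem hw')
  have hcz := E.com w hwQ w' hw'
  set c := w * w' * w⁻¹ * w'⁻¹ with hcd
  have e1 : g * c * g⁻¹ = c := by rw [(comm_zp hg hcz).eq, mul_inv_cancel_right]
  have gw : g * w * g⁻¹ = k * w := by rw [hkd]; group
  have gw' : g * w' * g⁻¹ = v * w' := by rw [hvd]; group
  have e2 : g * c * g⁻¹ = (k * w) * (v * w') * (k * w)⁻¹ * (v * w')⁻¹ := by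
    rw [← gw, ← gw', hcd]; group
  rw [e1] at e2
  have kc := (E.cen k hk _ (mul_mem (mul_mem (mul_mem hwQ hv) hw') (inv_mem hwQ))).eq
  have e3 : c = (w * v * w' * w⁻¹) * w'⁻¹ * v⁻¹ := by
    rw [e2]
    calc (k * w) * (v * w') * (k * w)⁻¹ * (v * w')⁻¹ = (k * (w * v * w' * w⁻¹)) * k⁻¹ * w'⁻¹ * v⁻¹ := by group
      _ = (w * v * w' * w⁻¹) * w'⁻¹ * v⁻¹ := by rw [kc]; group
  have vc := (E.cen c hcz v hv).eq
  -- `w' w⁻¹ w'⁻¹ = w⁻¹ c`
  have e4 : w' * w⁻¹ * w'⁻¹ = w⁻¹ * c := by rw [hcd]; group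
  have e5 : v * (w⁻¹ * c) = (w⁻¹ * c) * v := by
    rw [← e4]
    calc v * (w' * w⁻¹ * w'⁻¹) = w⁻¹ * ((w * v * w' * w⁻¹) * w'⁻¹ * v⁻¹) * v := by group
      _ = w⁻¹ * c * v := by rw [← e3]
      _ = (w' * w⁻¹ * w'⁻¹) * v := by rw [e4]
  have e6 : Commute v w⁻¹ := by
    have h1 : Commute v (w⁻¹ * c) := e5
    have h2 : Commute v c⁻¹ := (show Commute v c from vc.symm).inv_right
    have h3 := h1.mul_right h2
    rwa [mul_inv_cancel_right] at h3
  have h7 := e6.inv_right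
  rwa [inv_inv] at h7

/-- transfer to a fixed class which does not commute -/
theorem triv_of [Finite X] (hc : Nat.card (Qc D (d 0)) = 27) (hx : Nat.card (zpowers x) = 3) {g e e' : X}
    (hg : Commute g x) (he : e ∈ D) (hT : Triv D x g e) (he' : e' ∈ D) (het' : Tw D e' (g * e' * g⁻¹))
    (hn : ¬ Commute e' e) : Triv D x g e' := by
  intro w' hw'
  refine mem_x_of_cent H he' he hn (mul_mem (qc_cj H he' het' w' hw') (inv_mem hw')) ?_
  exact comm_of_triv H hc hx hg he hT (Qc_le he' hw')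

omit H in
/-- five commuting classes -/
theorem exists_frame (Gm : Geo D z) {e a : X} (he : e ∈ D) (ha : a ∈ Nb D e) :
    ∃ p : Fin 5 → X, p 0 = e ∧ p 1 = a ∧ (∀ i, p i ∈ D) ∧ ∀ i j, i ≠ j → p j ∈ Nb D (p i) := by
  obtain ⟨b, c, f, h1, h2, h3, h4, h5, h6, h7, h8, h9⟩ := Gm.five e he a ha
  refine ⟨![e, a, b, c, f], rfl, rfl, ?_, ?_⟩
  · intro i
    fin_cases i
    exacts [he, ha.1, h1.1, h2.1, h3.1]
  · have s := fun {u v : X} (hu : u ∈ D) (h : v ∈ Nb D u) => nb_symm hu h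
    intro i j hij
    fin_cases i <;> fin_cases j
    all_goals first
      | exact absurd rfl hij
      | assumption
      | exact s he ha
      | exact s he h1
      | exact s he h2
      | exact s he h3
      | exact s ha.1 h4
      | exact s ha.1 h5
      | exact s ha.1 h6
      | exact s h1.1 h7
      | exact s h1.1 h8
      | exact s h2.1 h9

/-- five commuting classes generate `Q` -/
theorem sup_frame [Finite X] (hc : Nat.card (Qc D (d 0)) = 27) (hx : Nat.card (zpowers x) = 3) {p : Fin 5 → X}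
    (hp : ∀ i, p i ∈ D) (hpp : ∀ i j, i ≠ j → p j ∈ Nb D (p i)) :
    QQ D = Qc D (p 0) ⊔ Qc D (p 1) ⊔ Qc D (p 2) ⊔ Qc D (p 3) ⊔ Qc D (p 4) := by
  have hcom : ∀ i j, i ≠ j → ∀ g ∈ Qc D (p i), ∀ r ∈ Qc D (p j), Commute g r := fun i j hij g hg r hr =>
    comm_Qc_Qc (hp i) (hpp i j hij) hg hr
  have csup : ∀ {A B C : Subgroup X}, (∀ g ∈ A, ∀ r ∈ C, Commute g r) → (∀ g ∈ B, ∀ r ∈ C, Commute g r) →
      (∀ g ∈ A ⊔ B, ∀ r ∈ C, Commute g r) := by
    intro A B C h1 h2 g hg r hr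
    have h3 : A ⊔ B ≤ Subgroup.centralizer ({r} : Set X) := by
      apply sup_le
      · intro a ha
        rw [Subgroup.mem_centralizer_singleton_iff]
        exact (h1 a ha r hr).eq
      · intro a ha
        rw [Subgroup.mem_centralizer_singleton_iff]
        exact (h2 a ha r hr).eq
    exact Subgroup.mem_centralizer_singleton_iff.1 (h3 hg)
  have k1 := hcom 0 1 (by decide)
  have k2 := csup (hcom 0 2 (by decide)) (hcom 1 2 (by decide))
  have k3 := csup (csup (hcom 0 3 (by decide)) (hcom 1 3 (by decide))) (hcom 2 3 (by decide))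
  have k4 := csup (csup (csup (hcom 0 4 (by decide)) (hcom 1 4 (by decide))) (hcom 2 4 (by decide))) (hcom 3 4 (by decide))
  have E := fun i => es_all H (hp i)
  have e1 := (E 0).sup (E 1) k1
  have e2 := e1.sup (E 2) k2
  have e3 := e2.sup (E 3) k3
  have c1 := (E 0).card_sup (E 1) k1
  have c2 := e1.card_sup (E 2) k2
  have c3 := e2.card_sup (E 3) k3
  have c4 := e3.card_sup (E 4) k4
  rw [hx, card_all H (hp 0), card_all H (hp 1), hc] at c1
  rw [hx, card_all H (hp 2), hc] at c2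
  rw [hx, card_all H (hp 3), hc] at c3
  rw [hx, card_all H (hp 4), hc] at c4
  symm
  refine Subgroup.eq_of_le_of_card_ge ?_ ?_
  · exact sup_le (sup_le (sup_le (sup_le (Qc_le (hp 0)) (Qc_le (hp 1))) (Qc_le (hp 2))) (Qc_le (hp 3))) (Qc_le (hp 4))
  · rw [(H.es_card hc hx).2]
    omega

/-- an element acting trivially on `Q` modulo `⟨x⟩` fixes all classes -/
theorem tw_of_triv [Finite X] (hc : Nat.card (Qc D (d 0)) = 27) (hx : Nat.card (zpowers x) = 3) {g p : X}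
    (hno : NoA D g) (h : ∀ w ∈ QQ D, g * w * g⁻¹ * w⁻¹ ∈ zpowers x) (hp : p ∈ D) : Tw D p (g * p * g⁻¹) := by
  have hq : g * p * g⁻¹ ∈ D := H.ts.cj p hp g
  have h1 : ∀ y ∈ Qc D (g * p * g⁻¹), y ∈ Qc D p := by
    intro y hy
    rw [← Qc_conj H.ts] at hy
    obtain ⟨w, hw, rfl⟩ := hy
    have h2 := (es_all H hp).le (h w (Qc_le hp hw))
    have h3 := mul_mem h2 hw
    rw [inv_mul_cancel_right] at h3
    exact h3
  have h1' : ∀ y ∈ Qc D p, y ∈ Qc D (g * p * g⁻¹) := by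
    intro y hy
    have h2 := (es_all H hq).le (h y (Qc_le hp hy))
    have h3 := conj_mem_Qc H.ts (g := g) hy
    have h4 := mul_mem (inv_mem h2) h3
    have e : (g * y * g⁻¹ * y⁻¹)⁻¹ * (g * y * g⁻¹) = y := by group
    rwa [e] at h4
  have big : ∀ {r : X}, r ∈ D → ¬ Qc D r ≤ zpowers x := by
    intro r hr hle
    have h2 := Subgroup.card_le_of_le hle
    rw [card_all H hr, hc, hx] at h2
    omega
  by_contra hcon
  have h2 : ¬ (∀ u, u ∈ Nb D p ↔ u ∈ Nb D (g * p * g⁻¹)) := fun h3 => hcon (Set.ext h3)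
  push Not at h2
  obtain ⟨u, ⟨h3, h4⟩ | ⟨h3, h4⟩⟩ := h2
  · apply big hq
    intro y hy
    refine mem_x_of_cent H hq h3.1 (not_comm_of h3.1 h4 ?_) hy ?_
    · intro h5
      rw [← h5] at h3
      exact hno p hp h3
    · intro v hv
      exact comm_Qc_Qc hp h3 (h1 y hy) hv
  · apply big hp
    intro y hy
    refine mem_x_of_cent H hp h4.1 (not_comm_of h4.1 h3 ?_) hy ?_
    · intro h5
      rw [← h5] at h4
      exact hno p hp (nb_symm hq h4)
    · intro v hv
      exact comm_Qc_Qc hq h4 (h1' y hy) hv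

/-- **Case C, two commuting fixed classes** -/
theorem caseC1 [Finite X] (Gm : Geo D z) (hc : Nat.card (Qc D (d 0)) = 27) (hx : Nat.card (zpowers x) = 3) {g : X}
    (hg : Commute g x) {n : ℕ} (hn : g ^ 3 ^ n = 1) (hno : NoA D g) {p0 : X} (hp0 : p0 ∈ D)
    (hpt0 : ¬ Tw D p0 (g * p0 * g⁻¹)) {e a : X} (he : e ∈ D) (het : Tw D e (g * e * g⁻¹)) (ha : a ∈ Nb D e)
    (hat : Tw D a (g * a * g⁻¹)) : Nat.card ↥(centralizer ({g} : Set X) ⊓ QQ D) ≤ 3 ^ 7 := by
  obtain ⟨p, hpe, hpa, hp, hpp⟩ := exists_frame Gm he ha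
  have hQ := sup_frame H hc hx hp hpp
  -- all are fixed
  have hfix : ∀ i, Tw D (p i) (g * p i * g⁻¹) := by
    intro i
    by_cases h0 : i = 0
    · subst h0; rwa [hpe]
    by_cases h1 : i = 1
    · subst h1; rwa [hpa]
    have h2 : p i ∈ Nb D e := by rw [← hpe]; exact hpp 0 i (Ne.symm h0)
    have h3 : p i ∈ Nb D a := by rw [← hpa]; exact hpp 1 i (Ne.symm h1)
    have h4 : g * p i * g⁻¹ ∈ Nb D e := nb_tw het.symm (nb_conj H.ts h2 g)
    have h5 : g * p i * g⁻¹ ∈ Nb D a := nb_tw hat.symm (nb_conj H.ts h3 g)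
    rcases Gm.line e he (p i) h2 a ha _ h4 (Or.inl (nb_symm ha.1 h3)) (Or.inl h5) with h6 | h6
    · exact absurd h6 (hno _ (hp i))
    · exact h6
  -- fixed points outside the line
  have hout : ∀ j : Fin 5, ∃ q ∈ D, Tw D q (g * q * g⁻¹) ∧ ∀ k, k ≠ j → ¬ Commute q (p k) ∧ ¬ Commute (p k) q := by
    intro j
    obtain ⟨k0, hk0⟩ : ∃ k : Fin 5, j ≠ k := ⟨j + 1, by fin_cases j <;> decide⟩
    obtain ⟨q, hq, hqa, hqt, hqf⟩ := fixp H Gm hn (hp j) (hfix j) (hpp j k0 hk0) (hfix k0)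
    refine ⟨q, hq.1, hqf, ?_⟩
    intro k hk
    have h1 : ¬ Commute (p k) q := by
      intro h2
      have h3 : q ≠ p k := by
        rintro rfl
        by_cases h4 : k = k0
        · subst h4
          exact hqt (Tw.refl _)
        · exact hqa (hpp k0 k (Ne.symm h4))
      have h4 : q ∈ Nb D (p k) := ⟨hq.1, h3, h2⟩
      by_cases h5 : k = k0
      · subst h5
        exact hqa h4
      · rcases Gm.line (p j) (hp j) (p k0) (hpp j k0 hk0) (p k) (hpp j k (Ne.symm hk)) q hq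
          (Or.inl (hpp k0 k (Ne.symm h5))) (Or.inl h4) with h6 | h6
        · exact hqa h6
        · exact hqt h6
    exact ⟨fun h => h1 h.symm, h1⟩
  -- no class is centralized
  have hnt : ∀ i, ¬ Triv D x g (p i) := by
    intro i hi
    have hstep : ∀ j, j ≠ i → ∀ k, k ≠ j → Triv D x g (p k) := by
      intro j hj k hk
      obtain ⟨q, hq, hqf, hqn⟩ := hout j
      have h1 : Triv D x g q := triv_of H hc hx hg (hp i) hi hq hqf (hqn i (Ne.symm hj)).1
      exact triv_of H hc hx hg hq h1 (hp k) (hfix k) (hqn k hk).2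
    have hall : ∀ k, Triv D x g (p k) := by
      intro k
      by_cases hk : k = i
      · subst hk; exact hi
      · obtain ⟨j, hj1, hj2⟩ : ∃ j : Fin 5, j ≠ i ∧ k ≠ j := by
          revert i k
          intro i _ _ k _
          have : ∀ i k : Fin 5, ∃ j : Fin 5, j ≠ i ∧ k ≠ j := by decide
          exact this i k
        exact hstep j hj1 k hj2
    apply hpt0
    refine tw_of_triv H hc hx hno ?_ hp0
    intro w hw
    have E := (H.es_card hc hx).1
    have hnQ := H.normal_Q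
    apply E.nd _ (mul_mem (hnQ.conj_mem w hw g) (inv_mem hw))
    intro y hy
    have hk : ∀ k, Qc D (p k) ≤ Subgroup.centralizer ({g * w * g⁻¹ * w⁻¹} : Set X) := by
      intro k u hu
      rw [Subgroup.mem_centralizer_singleton_iff]
      exact (comm_of_triv H hc hx hg (hp k) (hall k) hw u hu).symm.eq
    have h2 : QQ D ≤ Subgroup.centralizer ({g * w * g⁻¹ * w⁻¹} : Set X) := by
      rw [hQ]
      exact sup_le (sup_le (sup_le (sup_le (hk 0) (hk 1)) (hk 2)) (hk 3)) (hk 4)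
    exact (show Commute y _ from Subgroup.mem_centralizer_singleton_iff.1 (h2 hy)).symm
  have hw : ∀ i, ∃ w ∈ Qc D (p i), g * w * g⁻¹ * w⁻¹ ∉ zpowers x := by
    intro i
    have h1 := hnt i
    unfold Triv at h1
    push Not at h1
    exact h1
  choose w hw hwn using hw
  have hcom : ∀ i j, i ≠ j → ∀ g ∈ Qc D (p i), ∀ r ∈ Qc D (p j), Commute g r := fun i j hij g hg r hr =>
    comm_Qc_Qc (hp i) (hpp i j hij) hg hr
  have csup : ∀ {A B C : Subgroup X}, (∀ g ∈ A, ∀ r ∈ C, Commute g r) → (∀ g ∈ B, ∀ r ∈ C, Commute g r) →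
      (∀ g ∈ A ⊔ B, ∀ r ∈ C, Commute g r) := by
    intro A B C h1 h2 g hg r hr
    have h3 : A ⊔ B ≤ Subgroup.centralizer ({r} : Set X) := by
      apply sup_le
      · intro a ha
        rw [Subgroup.mem_centralizer_singleton_iff]
        exact (h1 a ha r hr).eq
      · intro a ha
        rw [Subgroup.mem_centralizer_singleton_iff]
        exact (h2 a ha r hr).eq
    exact Subgroup.mem_centralizer_singleton_iff.1 (h3 hg)
  have hZ : ∀ i, ∀ g ∈ zpowers x, ∀ r ∈ Qc D (p i), Commute g r := fun i => (es_all H (hp i)).cen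
  have s0 := Stg.start hx hg
  have s1 := s0.step (es_all H (hp 0)) (hZ 0) (qc_cj H (hp 0) (hfix 0)) (hw 0) (hwn 0)
  have s2 := s1.step (es_all H (hp 1)) (csup (hZ 1) (hcom 0 1 (by decide))) (qc_cj H (hp 1) (hfix 1)) (hw 1) (hwn 1)
  have s3 := s2.step (es_all H (hp 2)) (csup (csup (hZ 2) (hcom 0 2 (by decide))) (hcom 1 2 (by decide)))
    (qc_cj H (hp 2) (hfix 2)) (hw 2) (hwn 2)
  have s4 := s3.step (es_all H (hp 3)) (csup (csup (csup (hZ 3) (hcom 0 3 (by decide))) (hcom 1 3 (by decide)))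
    (hcom 2 3 (by decide))) (qc_cj H (hp 3) (hfix 3)) (hw 3) (hwn 3)
  refine card_of_inf (Q := QQ D) (s4.ple.trans ?_) s4.card (H.es_card hc hx).2 hx s4.fix
  have hle : ∀ i, Qc D (p i) ≤ QQ D := fun i => Qc_le (hp i)
  exact sup_le (sup_le (sup_le (sup_le ((es_all H (hp 0)).le.trans (hle 0)) (hle 0)) (hle 1)) (hle 2)) (hle 3)

end

end Cfsg.Agent.H597.OreFi
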